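import Mathlib.RingTheory.Etale.Basic
import Mathlib.RingTheory.Etale.StandardEtale
import Mathlib.RingTheory.Smooth.Flat
import Mathlib.RingTheory.Ideal.Pure
import Mathlib.RingTheory.Ideal.IdempotentFG
import Mathlib.RingTheory.Noetherian.Nilpotent

/-!
# Étale algebras modulo nil ideals
-/

set_option backward.isDefEq.respectTransparency false
set_option backward.isDefEq.respectTransparency.types false

universe u

namespace Groth.Agent.GrpdThick

/-- A map of algebras into one of finite type which is surjective modulo a nil ideal of the base is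
surjective. -/
theorem surjective_of_mod_nil {A W V : Type u} [CommRing A] [CommRing W] [CommRing V] [Algebra A W] [Algebra A V]
    [Algebra.FiniteType A V] (θ : W →ₐ[A] V) (N : Ideal A) (hN : N ≤ nilradical A)
    (h : ∀ v, ∃ w, v - θ w ∈ N.map (algebraMap A V)) : Function.Surjective θ := by
  classical
  obtain ⟨T, hT⟩ := (inferInstance : Algebra.FiniteType A V).out
  have hfin : ∀ v ∈ N.map (algebraMap A V), ∃ I : Ideal A, I.FG ∧ I ≤ N ∧ v ∈ I.map (algebraMap A V) := by
    intro v hv
    induction hv using Submodule.span_induction with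
    | mem v hv =>
      obtain ⟨i, hi, rfl⟩ := hv
      exact ⟨Ideal.span {i}, Submodule.fg_span_singleton i, by simpa [Ideal.span_le] using hi,
        Ideal.mem_map_of_mem _ (Ideal.mem_span_singleton_self i)⟩
    | zero => exact ⟨⊥, Submodule.fg_bot, bot_le, zero_mem _⟩
    | add v v' _ _ hv hv' =>
      obtain ⟨I, h1, h2, h3⟩ := hv
      obtain ⟨I', h1', h2', h3'⟩ := hv'
      exact ⟨I ⊔ I', Submodule.FG.sup h1 h1', sup_le h2 h2', add_mem (Ideal.map_mono le_sup_left h3)
        (Ideal.map_mono le_sup_right h3')⟩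
    | smul c v _ hv =>
      obtain ⟨I, h1, h2, h3⟩ := hv
      exact ⟨I, h1, h2, Ideal.mul_mem_left _ _ h3⟩
  choose w hw using fun v => h v
  choose I hI hIN hmem using fun v => hfin _ (hw v)
  let I₀ := T.sup I
  have hI₀ : I₀.FG := Submodule.fg_finset_sup T I fun v _ => hI v
  obtain ⟨n, hn⟩ := (Ideal.FG.isNilpotent_iff_le_nilradical hI₀).2
    ((Finset.sup_le fun v _ => hIN v).trans hN)
  let S := θ.range
  let M : Submodule A V := Subalgebra.toSubmodule S
  have hgen : ∀ v, ∃ s ∈ S, v - s ∈ I₀.map (algebraMap A V) := by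
    let Q : Subalgebra A V :=
      { carrier := {v | ∃ s ∈ S, v - s ∈ I₀.map (algebraMap A V)}
        mul_mem' := by
          rintro v v' ⟨s, hs, h⟩ ⟨s', hs', h'⟩
          refine ⟨s * s', mul_mem hs hs', ?_⟩
          rw [show v * v' - s * s' = v * (v' - s') + (v - s) * s' by ring]
          exact add_mem (Ideal.mul_mem_left _ _ h') (Ideal.mul_mem_right _ _ h)
        add_mem' := by
          rintro v v' ⟨s, hs, h⟩ ⟨s', hs', h'⟩
          exact ⟨s + s', add_mem hs hs', by rw [add_sub_add_comm]; exact add_mem h h'⟩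
        algebraMap_mem' := fun c => ⟨_, S.algebraMap_mem c, by rw [sub_self]; exact zero_mem _⟩ }
    intro v
    exact (Algebra.adjoin_le (S := Q) fun t ht => ⟨θ (w t), ⟨w t, rfl⟩,
      Ideal.map_mono (Finset.le_sup ht) (hmem t)⟩) (hT.ge (Algebra.mem_top : v ∈ (⊤ : Subalgebra A V)))
  have hpow : ∀ k, ∀ v, ∃ s ∈ S, v - s ∈ (I₀ ^ k).map (algebraMap A V) := by
    intro k
    induction k with
    | zero => exact fun v => ⟨0, zero_mem _, by simp [Ideal.one_eq_top, Ideal.map_top]⟩
    | succ k ih =>
      intro v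
      obtain ⟨s, hs, hvs⟩ := ih v
      suffices ∀ u ∈ (I₀ ^ k).map (algebraMap A V), ∀ c : V, ∃ s ∈ S, c * u - s ∈ (I₀ ^ (k + 1)).map (algebraMap A V) by
        obtain ⟨s', hs', h'⟩ := this _ hvs 1
        exact ⟨s + s', add_mem hs hs', by rw [← sub_sub, ← one_mul (v - s)]; exact h'⟩
      intro u hu
      induction hu using Submodule.span_induction with
      | mem u hu =>
        obtain ⟨a, ha, rfl⟩ := hu
        intro c
        obtain ⟨s, hs, hcs⟩ := hgen c
        refine ⟨s * algebraMap A V a, mul_mem hs (S.algebraMap_mem a), ?_⟩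
        rw [← sub_mul, mul_comm, pow_succ, Ideal.map_mul]
        exact Ideal.mul_mem_mul (Ideal.mem_map_of_mem _ ha) hcs
      | zero => exact fun c => ⟨0, zero_mem _, by simp⟩
      | add u u' _ _ hu hu' =>
        intro c
        obtain ⟨s, hs, h⟩ := hu c
        obtain ⟨s', hs', h'⟩ := hu' c
        exact ⟨s + s', add_mem hs hs', by rw [mul_add, add_sub_add_comm]; exact add_mem h h'⟩
      | smul d u _ hu => intro c; rw [smul_eq_mul, ← mul_assoc]; exact hu _
  intro v
  obtain ⟨s, ⟨x, rfl⟩, hv⟩ := hpow n v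
  rw [hn, Submodule.zero_eq_bot, Ideal.map_bot, Ideal.mem_bot, sub_eq_zero] at hv
  exact ⟨x, hv.symm⟩

/-- A map of étale algebras which is bijective modulo a nil ideal of the base is bijective. -/
theorem bijective_of_mod_nil {A W V : Type u} [CommRing A] [CommRing W] [CommRing V] [Algebra A W] [Algebra A V]
    [Algebra.Etale A W] [Algebra.Etale A V] (θ : W →ₐ[A] V) (N : Ideal A) (hN : N ≤ nilradical A)
    (hs : ∀ v, ∃ w, v - θ w ∈ N.map (algebraMap A V)) (hi : ∀ w, θ w = 0 → w ∈ N.map (algebraMap A W)) :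
    Function.Bijective θ := by
  have hsurj := surjective_of_mod_nil θ N hN hs
  refine ⟨?_, hsurj⟩
  let := θ.toRingHom.toAlgebra
  have : IsScalarTower A W V := IsScalarTower.of_algebraMap_eq fun x => (θ.commutes x).symm
  have : Algebra.Etale W V := Algebra.Etale.of_restrictScalars A W V
  have : Module.Flat W V := inferInstance
  let K : Ideal W := RingHom.ker θ
  have hfg : K.FG := Algebra.FinitePresentation.ker_fG_of_surjective θ hsurj
  let e : (W ⧸ K) ≃ₗ[W] V :=
    { RingHom.quotientKerEquivOfSurjective hsurj with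
      map_smul' := fun c x => by
        obtain ⟨x, rfl⟩ := Ideal.Quotient.mk_surjective x
        show θ (c * x) = θ c * θ x
        exact map_mul θ c x }
  have : Module.Flat W (W ⧸ K) := Module.Flat.of_linearEquiv e
  have hidem : IsIdempotentElem K := by
    have : Ideal.Pure K := this
    exact K.isIdempotentElem_of_pure
  obtain ⟨x, hx, hK⟩ := (Ideal.isIdempotentElem_iff_of_fg K hfg).1 hidem
  have hnil : x ∈ nilradical W := by
    refine (show N.map (algebraMap A W) ≤ nilradical W from ?_) (hi x ?_)
    · exact Ideal.map_le_iff_le_comap.2 fun a ha => mem_nilradical.2 ((mem_nilradical.1 (hN ha)).map _)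
    · have : x ∈ K := hK ▸ Submodule.mem_span_singleton_self x
      exact this
  have hx0 : x = 0 := by
    obtain ⟨k, hk⟩ := mem_nilradical.1 hnil
    have : x ^ (k + 1) = x := hx.pow_succ_eq k
    rw [← this, pow_succ, hk, zero_mul]
  rw [injective_iff_map_eq_zero]
  intro w hw
  have : w ∈ K := hw
  rw [hK, hx0] at this
  simpa using this

end Groth.Agent.GrpdThick
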