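import Groth.Agent.GrpdThick.NilModel
import Groth.Agent.GrpdThick.NilEtale
import Mathlib.RingTheory.Flat.FaithfullyFlat.Algebra
import Mathlib.RingTheory.RingHom.Etale

/-!
# Étale relations which are quotients modulo a nil ideal

If modulo a nil invariant ideal an affine étale groupoid is the kernel pair of an étale surjection, so
is the groupoid itself, with the invariants as base.
-/

set_option backward.isDefEq.respectTransparency false
set_option backward.isDefEq.respectTransparency.types false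

universe u

open CategoryTheory TensorProduct

namespace Groth.Agent.GrpdThick

/-- A groupoid which comes from a faithfully flat algebra over a base mapped into the invariants is a
quotient. -/
theorem isQuot_of_model (D : Rel.{u}) {R₀ R' : Type u} [CommRing R₀] [CommRing R'] [Algebra R₀ R']
    [Module.FaithfullyFlat R₀ R'] (f : R₀ →+* D.A) (hf : ∀ c, D.t (f c) = D.s (f c)) (h : R' →+* D.A)
    (hh : ∀ c, h (algebraMap R₀ R' c) = f c)
    (hΘ : letI := f.toAlgebra; ∃ Θ : D.A ⊗[R₀] R' →+* D.B,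
      (∀ a y, Θ (a ⊗ₜ y) = D.t a * D.s (h y)) ∧ Function.Bijective Θ) :
    D.IsQuot := by
  let := f.toAlgebra
  obtain ⟨Θ, hΘ₀, hΘb⟩ := hΘ
  let : Algebra R₀ D.B := (D.t.comp f).toAlgebra
  let tR : D.A →ₐ[R₀] D.B := { D.t with commutes' := fun _ => rfl }
  let sR : D.A →ₐ[R₀] D.B := { D.s with commutes' := fun c => (hf c).symm }
  let K := D.s.eqLocus D.t
  let : Algebra R₀ K := (f.codRestrict K fun c => (hf c).symm).toAlgebra
  have : IsScalarTower R₀ K D.A := IsScalarTower.of_algebraMap_eq fun _ => rfl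
  let d : D.A →ₗ[R₀] D.B := tR.toLinearMap - sR.toLinearMap
  let incl : K →ₗ[R₀] D.A := (IsScalarTower.toAlgHom R₀ K D.A).toLinearMap
  have hex : Function.Exact incl d := fun a => ⟨fun ha => ⟨⟨a, (sub_eq_zero.1 ha).symm⟩, rfl⟩, by
    rintro ⟨⟨a, ha⟩, rfl⟩
    exact sub_eq_zero.2 ha.symm⟩
  -- the candidate isomorphism
  let hR : R' →ₐ[R₀] D.A := { h with commutes' := hh }
  let Ψ : K ⊗[R₀] R' →ₐ[K] D.A := Algebra.TensorProduct.lift (Algebra.ofId K D.A) hR fun _ _ => .all _ _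
  have hΨ : ∀ (k : K) y, Ψ (k ⊗ₜ y) = (k : D.A) * h y := fun k y => rfl
  have hΘΨ : ∀ z, Θ (incl.rTensor R' z) = D.s (Ψ z) := fun z => by
    induction z using TensorProduct.induction_on with
    | zero => simp
    | tmul k y =>
      rw [LinearMap.rTensor_tmul, hΘ₀, hΨ, map_mul]
      exact congrArg (· * D.s (h y)) k.2.symm
    | add z w hz hw => simp only [map_add, hz, hw]
  have hinj : Function.Injective Ψ := by
    rw [injective_iff_map_eq_zero]
    intro z hz
    have := hΘΨ z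
    rw [hz, map_zero] at this
    apply Module.Flat.rTensor_preserves_injective_linearMap (M := R') incl Subtype.val_injective
    rw [map_zero]
    exact hΘb.1 (this.trans (map_zero Θ).symm)
  have hsurj : Function.Surjective Ψ := by
    intro a
    obtain ⟨x, hx⟩ := hΘb.2 (D.s a)
    -- the two composites through composable arrows
    have hw : ∀ c, D.p₂ (D.t c) = D.p₁ (D.s c) := fun c => congrArg (fun φ => φ.hom c) D.sq₁.w
    let γ : D.B ⊗[R₀] R' →+ D.C := TensorProduct.liftAddHom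
      { toFun := fun b => ((AddMonoidHom.mulLeft (D.p₁ b)).comp (D.p₂.comp (D.s.comp h)).toAddMonoidHom)
        map_zero' := by ext y; simp
        map_add' := fun b b' => by ext y; simp [add_mul] }
      (fun c b y => by
        show D.p₁ (D.t (f c) * b) * D.p₂ (D.s (h y)) = D.p₁ b * D.p₂ (D.s (h (c • y)))
        rw [Algebra.smul_def, map_mul h, hh, map_mul D.s, ← hf, map_mul, map_mul, hw (f c), hf c]
        ring)
    have hγ : ∀ b y, γ (b ⊗ₜ y) = D.p₁ b * D.p₂ (D.s (h y)) := fun b y => rfl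
    have hγinj : Function.Injective γ := by
      let Θe := RingEquiv.ofBijective Θ hΘb
      let Ω : D.B →+* D.B ⊗[R₀] R' :=
        (Algebra.TensorProduct.map sR (AlgHom.id R₀ R')).toRingHom.comp Θe.symm.toRingHom
      have hΩ : CommRingCat.ofHom D.t ≫ CommRingCat.ofHom Ω = CommRingCat.ofHom D.s ≫
          CommRingCat.ofHom (Algebra.TensorProduct.includeLeftRingHom : D.B →+* D.B ⊗[R₀] R') := by
        ext c
        show Algebra.TensorProduct.map sR (AlgHom.id R₀ R') (Θe.symm (D.t c)) = D.s c ⊗ₜ[R₀] 1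
        rw [show Θe.symm (D.t c) = c ⊗ₜ[R₀] 1 from Θe.symm_apply_eq.2 (by
          show D.t c = Θ (c ⊗ₜ 1); rw [hΘ₀, map_one, map_one, mul_one])]
        rfl
      let ρ := (D.sq₁.desc _ _ hΩ).hom
      have hρ₁ : ∀ b, ρ (D.p₁ b) = b ⊗ₜ[R₀] 1 := fun b => congrArg (fun φ => φ.hom b) (D.sq₁.inr_desc _ _ hΩ)
      have hρ₂ : ∀ b, ρ (D.p₂ b) = Ω b := fun b => congrArg (fun φ => φ.hom b) (D.sq₁.inl_desc _ _ hΩ)
      have hinv : ∀ z, ρ (γ z) = z := fun z => by
        induction z using TensorProduct.induction_on with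
        | zero => simp
        | tmul b y =>
          rw [hγ, map_mul, hρ₁, hρ₂, show Ω (D.s (h y)) = (1 : D.B) ⊗ₜ[R₀] y by
            show Algebra.TensorProduct.map sR (AlgHom.id R₀ R') (Θe.symm (D.s (h y))) = _
            rw [show Θe.symm (D.s (h y)) = (1 : D.A) ⊗ₜ[R₀] y from Θe.symm_apply_eq.2 (by
              show D.s (h y) = Θ (1 ⊗ₜ y); rw [hΘ₀, map_one, one_mul])]
            simp, Algebra.TensorProduct.tmul_mul_tmul, mul_one, one_mul]
        | add z w hz hw => simp only [map_add, hz, hw]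
      exact Function.LeftInverse.injective hinv
    have hd : ∀ z, γ (d.rTensor R' z) = D.m (Θ z) - D.p₂ (Θ z) := fun z => by
      induction z using TensorProduct.induction_on with
      | zero => simp
      | tmul c y =>
        rw [LinearMap.rTensor_tmul, hγ, hΘ₀]
        show D.p₁ (D.t c - D.s c) * D.p₂ (D.s (h y)) = _
        rw [map_mul, map_mul, show D.m (D.t c) = D.p₁ (D.t c) from RingHom.congr_fun D.m_t c,
          show D.m (D.s (h y)) = D.p₂ (D.s (h y)) from RingHom.congr_fun D.m_s (h y), hw, map_sub, sub_mul]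
      | add z w hz hw => rw [map_add, map_add, hz, hw, map_add, map_add, map_add, add_sub_add_comm]
    have h0 : d.rTensor R' x = 0 := hγinj (by
      rw [map_zero, hd, hx, show D.m (D.s a) = D.p₂ (D.s a) from RingHom.congr_fun D.m_s a, sub_self])
    obtain ⟨z, rfl⟩ := (Module.Flat.rTensor_exact R' hex x).1 h0
    refine ⟨z, ?_⟩
    have := congrArg D.e ((hΘΨ z).symm.trans hx)
    rwa [← RingHom.comp_apply, ← RingHom.comp_apply, D.e_s] at this
  let ΨL : K ⊗[R₀] R' ≃ₐ[K] D.A := AlgEquiv.ofBijective Ψ ⟨hinj, hsurj⟩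
  have : Module.FaithfullyFlat K D.A := Module.FaithfullyFlat.of_linearEquiv _ _ ΨL.symm.toLinearEquiv
  refine ⟨RingHom.flat_algebraMap_iff.2 (inferInstanceAs (Module.Flat K D.A)),
    PrimeSpectrum.comap_surjective_of_faithfullyFlat (A := K) (B := D.A), ?_⟩
  let : Algebra D.A D.B := D.t.toAlgebra
  let : Algebra K D.B := (D.t.comp K.subtype).toAlgebra
  have : IsScalarTower K D.A D.B := IsScalarTower.of_algebraMap_eq fun _ => rfl
  let sK : D.A →ₐ[K] D.B := { D.s with commutes' := fun k => k.2 }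
  let L : D.A ⊗[K] D.A →ₐ[D.A] D.B := Algebra.TensorProduct.lift (Algebra.ofId D.A D.B) sK fun _ _ => .all _ _
  have hL : ∀ x y, L (x ⊗ₜ y) = D.t x * D.s y := fun x y => rfl
  let E : D.A ⊗[R₀] R' ≃ₐ[D.A] D.A ⊗[K] D.A :=
    (Algebra.TensorProduct.cancelBaseChange R₀ K D.A D.A R').symm.trans
      (Algebra.TensorProduct.congr AlgEquiv.refl ΨL)
  have hE : ∀ z, L (E z) = Θ z := fun z => by
    induction z using TensorProduct.induction_on with
    | zero => simp
    | tmul a y =>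
      have : E (a ⊗ₜ[R₀] y) = a ⊗ₜ[K] h y := by
        simp only [E, AlgEquiv.trans_apply, Algebra.TensorProduct.cancelBaseChange_symm_tmul,
          Algebra.TensorProduct.congr_apply, Algebra.TensorProduct.map_tmul]
        show a ⊗ₜ[K] Ψ (1 ⊗ₜ y) = _
        rw [hΨ, OneMemClass.coe_one, one_mul]
      rw [this, hL, hΘ₀]
    | add z w hz hw => simp only [map_add, hz, hw]
  have hbij : Function.Bijective L := by
    have hcomp : ⇑L = Θ ∘ E.symm := funext fun z => by
      conv_lhs => rw [← E.apply_symm_apply z]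
      exact hE _
    rw [hcomp]
    exact hΘb.comp E.symm.bijective
  refine IsPushout.of_iso (CommRingCat.isPushout_tensorProduct K D.A D.A) (Iso.refl _) (Iso.refl _) (Iso.refl _)
    (RingEquiv.ofBijective L.toRingHom hbij).toCommRingCatIso rfl rfl ?_ ?_
  · ext x
    show L (x ⊗ₜ 1) = D.t x
    rw [hL, map_one, mul_one]
  · ext y
    show L (1 ⊗ₜ y) = D.s y
    rw [hL, map_one, one_mul]

/-- The element of the extension of an ideal involves finitely many of its elements. -/
theorem exists_fg_mem_map {A B : Type u} [CommRing A] [CommRing B] (t : A →+* B) (J : Ideal A) {x : B}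
    (hx : x ∈ J.map t) : ∃ I : Ideal A, I.FG ∧ I ≤ J ∧ x ∈ I.map t := by
  induction hx using Submodule.span_induction with
  | mem v hv =>
    obtain ⟨i, hi, rfl⟩ := hv
    exact ⟨Ideal.span {i}, Submodule.fg_span_singleton i, by simpa [Ideal.span_le] using hi,
      Ideal.mem_map_of_mem _ (Ideal.mem_span_singleton_self i)⟩
  | zero => exact ⟨⊥, Submodule.fg_bot, bot_le, zero_mem _⟩
  | add v v' _ _ hv hv' =>
    obtain ⟨I, h1, h2, h3⟩ := hv
    obtain ⟨I', h1', h2', h3'⟩ := hv'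
    exact ⟨I ⊔ I', Submodule.FG.sup h1 h1', sup_le h2 h2', add_mem (Ideal.map_mono le_sup_left h3)
      (Ideal.map_mono le_sup_right h3')⟩
  | smul c v _ hv =>
    obtain ⟨I, h1, h2, h3⟩ := hv
    exact ⟨I, h1, h2, Ideal.mul_mem_left _ _ h3⟩

/-- The restriction to an invariant closed subscheme keeps étale arrows. -/
theorem etale_quot_t (D : Rel.{u}) (ht : D.t.Etale) (L : Ideal D.A) :
    (Ideal.quotientMap (L.map D.t) D.t Ideal.le_comap_map).Etale := by
  algebraize [D.t]
  let φ : (D.A ⧸ L) ⊗[D.A] D.B ≃ₐ[D.A] D.B ⧸ L.map (algebraMap D.A D.B) :=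
    (Algebra.TensorProduct.comm D.A _ _).trans
      ((Algebra.TensorProduct.quotIdealMapEquivTensorQuot D.B L).symm.restrictScalars D.A)
  let ψ : (D.A ⧸ L) ⊗[D.A] D.B ≃ₐ[D.A ⧸ L] D.B ⧸ L.map (algebraMap D.A D.B) :=
    AlgEquiv.ofRingEquiv (f := φ.toRingEquiv) fun x => by
      obtain ⟨c, rfl⟩ := Ideal.Quotient.mk_surjective x
      show φ (algebraMap D.A ((D.A ⧸ L) ⊗[D.A] D.B) c) = algebraMap D.A _ c
      exact φ.commutes c
  have h : (algebraMap (D.A ⧸ L) (D.B ⧸ L.map (algebraMap D.A D.B))).Etale :=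
    RingHom.etale_algebraMap.2 (Algebra.Etale.of_equiv ψ)
  exact h

/-- An affine étale relation which modulo a nil invariant ideal is an étale quotient is a quotient. -/
theorem isQuot_of_nil (D : Rel.{u}) (J : Ideal D.A) (hJ : J ≤ nilradical D.A) (Q : QuotMod D J)
    (hπ : Q.π₀.Etale) (ht : D.t.Etale) : D.IsQuot := by
  classical
  let A' := D.A ⧸ J
  let tb := Ideal.quotientMap (J.map D.t) D.t Ideal.le_comap_map
  let sb := Ideal.quotientMap (J.map D.t) D.s Q.inv
  algebraize [Q.π₀]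
  have : Module.Flat Q.A₀ A' := Q.flat
  have : Module.FaithfullyFlat Q.A₀ A' :=
    Module.FaithfullyFlat.of_comap_surjective (A := Q.A₀) (B := A') Q.surjective
  obtain ⟨S₀, R', _, _, hS₀, _, _, ⟨e⟩⟩ := exists_etale_ff_model (A₀ := Q.A₀) (A' := A')
  have : Algebra.FiniteType ℤ S₀ := (Subalgebra.fg_iff_finiteType S₀).1 hS₀
  have : IsNoetherianRing S₀ := Algebra.FiniteType.isNoetherianRing ℤ S₀
  let h : R' →+* A' := e.symm.toRingEquiv.toRingHom.comp
    (Algebra.TensorProduct.includeRight : R' →ₐ[S₀] Q.A₀ ⊗[S₀] R').toRingHom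
  have hesymm : ∀ (c : Q.A₀) (r : R'), e.symm (c ⊗ₜ r) = Q.π₀ c * h r := fun c r => by
    show _ = Q.π₀ c * e.symm ((1 : Q.A₀) ⊗ₜ r)
    rw [show c ⊗ₜ[S₀] r = c • ((1 : Q.A₀) ⊗ₜ[S₀] r) by rw [TensorProduct.smul_tmul', smul_eq_mul, mul_one],
      map_smul, Algebra.smul_def]
    rfl
  have heq : ∀ c : Q.A₀, tb (Q.π₀ c) = sb (Q.π₀ c) := fun c => congrArg (fun φ => φ.hom c) Q.sq₀.w
  have hcomp : ∀ c : S₀, h (algebraMap S₀ R' c) = Q.π₀ c := fun c => by
    show e.symm ((1 : Q.A₀) ⊗ₜ[S₀] algebraMap S₀ R' c) = _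
    rw [show (1 : Q.A₀) ⊗ₜ[S₀] algebraMap S₀ R' c = algebraMap Q.A₀ _ (c : Q.A₀) by
      rw [Algebra.TensorProduct.algebraMap_apply, Algebra.algebraMap_self, RingHom.id_apply,
        Algebra.algebraMap_eq_smul_one (A := R') c, TensorProduct.tmul_smul, TensorProduct.smul_tmul',
        Algebra.smul_def, mul_one]
      rfl, AlgEquiv.commutes]
    rfl
  let p := (CommRingCat.isPushout_tensorProduct Q.A₀ A' A').isoIsPushout _ _ Q.sq₀
  let e₀ : A' ⊗[Q.A₀] A' ≃+* D.B ⧸ J.map D.t := p.commRingCatIsoToRingEquiv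
  have he₀ : ∀ x y, e₀ (x ⊗ₜ y) = tb x * sb y := fun x y => by
    have h1 := congrArg (fun φ => φ.hom x)
      ((CommRingCat.isPushout_tensorProduct Q.A₀ A' A').inl_isoIsPushout_hom _ _ Q.sq₀)
    have h2 := congrArg (fun φ => φ.hom y)
      ((CommRingCat.isPushout_tensorProduct Q.A₀ A' A').inr_isoIsPushout_hom _ _ Q.sq₀)
    show p.hom.hom (x ⊗ₜ y) = _
    rw [show x ⊗ₜ[Q.A₀] y = (x ⊗ₜ[Q.A₀] 1) * (1 ⊗ₜ y) by simp, map_mul]
    exact congrArg₂ (· * ·) h1 h2
  let Mo : Model D J :=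
    { R₀ := S₀, R' := R', φ := Q.π₀.comp S₀.val.toRingHom, h := h, comp := hcomp, inv := Q.inv
      eq := fun c => heq c.1
      nil := hJ
      gen := by
        refine top_le_iff.1 fun b _ => ?_
        have hsb : ∀ y : A', sb y ∈ Subring.closure (Set.range tb ∪ Set.range (sb.comp h)) := fun y => by
          rw [← e.symm_apply_apply y]
          induction e y using TensorProduct.induction_on with
          | zero => rw [map_zero, map_zero]; exact zero_mem _
          | tmul c r =>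
            rw [hesymm, map_mul, ← heq]
            exact mul_mem (Subring.subset_closure (Or.inl ⟨_, rfl⟩)) (Subring.subset_closure (Or.inr ⟨r, rfl⟩))
          | add v w hv hw => rw [map_add, map_add]; exact add_mem hv hw
        rw [← e₀.apply_symm_apply b]
        induction e₀.symm b using TensorProduct.induction_on with
        | zero => rw [map_zero]; exact zero_mem _
        | tmul x y =>
          rw [he₀]
          exact mul_mem (Subring.subset_closure (Or.inl ⟨x, rfl⟩)) (hsb y)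
        | add v w hv hw => rw [map_add]; exact add_mem hv hw }
  -- finitely many relations
  have : Algebra.FinitePresentation ℤ S₀ := Algebra.FinitePresentation.of_finiteType.1 inferInstance
  have : Algebra.FinitePresentation ℤ R' := Algebra.FinitePresentation.trans ℤ S₀ R'
  obtain ⟨n, f, hfsurj, hker⟩ := Algebra.FinitePresentation.out (R := ℤ) (A := R')
  choose a ha using fun i : Fin n => Ideal.Quotient.mk_surjective (h (f (MvPolynomial.X i)))
  let ξ : MvPolynomial (Fin n) ℤ →+* D.A := MvPolynomial.eval₂Hom (Int.castRingHom D.A) a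
  have hξ : ∀ P, Ideal.Quotient.mk J (ξ P) = h (f P) := by
    have : (Ideal.Quotient.mk J).comp ξ = h.comp f.toRingHom :=
      MvPolynomial.ringHom_ext (fun c => by simp) (fun i => by simp [ξ, ha]; rfl)
    exact fun P => RingHom.congr_fun this P
  obtain ⟨G, hG⟩ := hS₀
  choose P hP using fun c : S₀ => hfsurj (algebraMap S₀ R' c)
  have hδ : ∀ c : S₀, D.t (ξ (P c)) - D.s (ξ (P c)) ∈ J.map D.t := fun c => by
    rw [← Ideal.Quotient.eq]
    show tb (Ideal.Quotient.mk J (ξ (P c))) = sb (Ideal.Quotient.mk J (ξ (P c)))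
    rw [hξ, hP, hcomp, heq]
  choose Ic hIc hIcJ hIcmem using fun c : S₀ => exists_fg_mem_map D.t J (hδ c)
  have hGS : ∀ c ∈ G, c ∈ S₀ := fun c hc => hG ▸ Algebra.subset_adjoin hc
  let I := (RingHom.ker f).map ξ ⊔ G.attach.sup fun c => Ic ⟨c.1, hGS c.1 c.2⟩
  have hIJ : I ≤ J := by
    refine sup_le (Ideal.map_le_iff_le_comap.2 fun P hP => ?_) (Finset.sup_le fun c _ => hIcJ _)
    rw [Ideal.mem_comap, ← Ideal.Quotient.eq_zero_iff_mem, hξ, show f P = 0 from hP, map_zero]
  have hIfg : I.FG := Submodule.FG.sup (Ideal.FG.map hker ξ) (Submodule.fg_finset_sup _ _ fun c _ => hIc _)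
  obtain ⟨L, hLfg, hIL, hLJ, hLinv⟩ := Mo.exists_invariant ht.finitePresentation I hIfg hIJ
  have hLnil : IsNilpotent L := (Ideal.FG.isNilpotent_iff_le_nilradical hLfg).2 (hLJ.trans hJ)
  let D' := D.quot L hLinv
  let hL : R' →+* D'.A := RingHom.liftOfSurjective f.toRingHom hfsurj ⟨(Ideal.Quotient.mk L).comp ξ, fun P hP =>
    Ideal.Quotient.eq_zero_iff_mem.2 (hIL (Ideal.mem_sup_left (Ideal.mem_map_of_mem ξ hP)))⟩
  have hhL : ∀ P, hL (f P) = Ideal.Quotient.mk L (ξ P) := fun P =>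
    RingHom.liftOfRightInverse_comp_apply _ _ (Function.rightInverse_surjInv hfsurj)
      ⟨(Ideal.Quotient.mk L).comp ξ, fun P hP =>
        Ideal.Quotient.eq_zero_iff_mem.2 (hIL (Ideal.mem_sup_left (Ideal.mem_map_of_mem ξ hP)))⟩ P
  let fL : S₀ →+* D'.A := hL.comp (algebraMap S₀ R')
  let tq : D.A ⧸ L →+* D.B ⧸ L.map D.t := Ideal.quotientMap _ D.t Ideal.le_comap_map
  let sq : D.A ⧸ L →+* D.B ⧸ L.map D.t := Ideal.quotientMap _ D.s hLinv
  have hfL : ∀ c : S₀, tq (fL c) = sq (fL c) := by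
    rintro ⟨c, hc⟩
    have hc' : c ∈ Algebra.adjoin ℤ (G : Set Q.A₀) := hG.symm ▸ hc
    induction hc' using Algebra.adjoin_induction with
    | mem x hx =>
      show tq (hL (algebraMap S₀ R' ⟨x, hc⟩)) = sq (hL (algebraMap S₀ R' ⟨x, hc⟩))
      rw [← hP ⟨x, hc⟩, hhL]
      show Ideal.Quotient.mk (L.map D.t) (D.t _) = Ideal.Quotient.mk (L.map D.t) (D.s _)
      rw [Ideal.Quotient.eq]
      exact Ideal.map_mono ((Finset.le_sup (f := fun c : G => Ic ⟨c.1, hGS c.1 c.2⟩)
        (Finset.mem_attach _ ⟨x, hx⟩)).trans (le_sup_right.trans hIL)) (hIcmem ⟨x, hc⟩)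
    | algebraMap r =>
      have : (⟨algebraMap ℤ Q.A₀ r, hc⟩ : S₀) = (r : S₀) := Subtype.ext (by simp)
      rw [this, map_intCast, map_intCast, map_intCast]
    | add x y hx hy hx' hy' =>
      have : (⟨x + y, hc⟩ : S₀) = ⟨x, hG ▸ hx⟩ + ⟨y, hG ▸ hy⟩ := rfl
      rw [this, map_add, map_add, map_add, hx', hy']
    | mul x y hx hy hx' hy' =>
      have : (⟨x * y, hc⟩ : S₀) = ⟨x, hG ▸ hx⟩ * ⟨y, hG ▸ hy⟩ := rfl
      rw [this, map_mul, map_mul, map_mul, hx', hy']
  -- the comparison map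
  let : Algebra S₀ (D.A ⧸ L) := fL.toAlgebra
  let : Algebra (D.A ⧸ L) (D.B ⧸ L.map D.t) := tq.toAlgebra
  let : Algebra S₀ (D.B ⧸ L.map D.t) := (tq.comp fL).toAlgebra
  have : IsScalarTower S₀ (D.A ⧸ L) (D.B ⧸ L.map D.t) := IsScalarTower.of_algebraMap_eq fun _ => rfl
  let sR : R' →ₐ[S₀] D.B ⧸ L.map D.t := { sq.comp hL with commutes' := fun c => (hfL c).symm }
  let θ : (D.A ⧸ L) ⊗[S₀] R' →ₐ[D.A ⧸ L] D.B ⧸ L.map D.t :=
    Algebra.TensorProduct.lift (Algebra.ofId _ _) sR fun _ _ => .all _ _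
  have hθ : ∀ x y, θ (x ⊗ₜ y) = tq x * sq (hL y) := fun x y => rfl
  -- modulo `J`
  let N : Ideal (D.A ⧸ L) := J.map (Ideal.Quotient.mk L)
  have hN : N ≤ nilradical (D.A ⧸ L) :=
    Ideal.map_le_iff_le_comap.2 fun j hj => mem_nilradical.2 ((mem_nilradical.1 (hJ hj)).map _)
  let qA : D.A ⧸ L →+* A' := Ideal.Quotient.factor hLJ
  let qB : D.B ⧸ L.map D.t →+* D.B ⧸ J.map D.t := Ideal.Quotient.factor (Ideal.map_mono hLJ)
  let : Algebra S₀ A' := (Q.π₀.comp S₀.val.toRingHom).toAlgebra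
  have : IsScalarTower S₀ Q.A₀ A' := IsScalarTower.of_algebraMap_eq fun _ => rfl
  have hqh : ∀ r, qA (hL r) = h r := fun r => by
    obtain ⟨P, rfl⟩ := hfsurj r
    rw [hhL, ← hξ]
    rfl
  let qA' : D.A ⧸ L →ₐ[S₀] A' :=
    { qA with commutes' := fun c => (hqh (algebraMap S₀ R' c)).trans (hcomp c) }
  let hA : R' →ₐ[S₀] A' := { h with commutes' := hcomp }
  let E : A' ⊗[S₀] R' ≃+* A' ⊗[Q.A₀] A' :=
    ((Algebra.TensorProduct.cancelBaseChange S₀ Q.A₀ A' A' R').symm.trans
      (Algebra.TensorProduct.congr AlgEquiv.refl e.symm)).toRingEquiv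
  have hE : ∀ x r, e₀ (E (x ⊗ₜ r)) = tb x * sb (h r) := fun x r => by
    have : E (x ⊗ₜ[S₀] r) = x ⊗ₜ[Q.A₀] e.symm ((1 : Q.A₀) ⊗ₜ[S₀] r) := by
      simp only [E, AlgEquiv.coe_ringEquiv, AlgEquiv.trans_apply,
        Algebra.TensorProduct.cancelBaseChange_symm_tmul, Algebra.TensorProduct.congr_apply,
        Algebra.TensorProduct.map_tmul]
      rfl
    rw [this, he₀]
    rfl
  have hdia : ∀ z, qB (θ z) = e₀ (E (Algebra.TensorProduct.map qA' (AlgHom.id S₀ R') z)) := fun z => by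
    induction z using TensorProduct.induction_on with
    | zero => simp
    | tmul x y =>
      rw [hθ, map_mul, Algebra.TensorProduct.map_tmul, hE]
      obtain ⟨x, rfl⟩ := Ideal.Quotient.mk_surjective x
      obtain ⟨y', hy'⟩ := Ideal.Quotient.mk_surjective (hL y)
      show qB (tq _) * qB (sq (hL y)) = tb (qA _) * sb (h y)
      rw [← hqh, ← hy']
      rfl
    | add z w hz hw => simp only [map_add, hz, hw]
  have hkerq : RingHom.ker qB ≤ N.map (algebraMap (D.A ⧸ L) (D.B ⧸ L.map D.t)) := fun x hx => by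
    obtain ⟨x, rfl⟩ := Ideal.Quotient.mk_surjective x
    rw [show N.map (algebraMap (D.A ⧸ L) (D.B ⧸ L.map D.t)) = (J.map D.t).map (Ideal.Quotient.mk (L.map D.t)) by
      rw [Ideal.map_map, Ideal.map_map]; rfl]
    exact Ideal.mem_map_of_mem _ (Ideal.Quotient.eq_zero_iff_mem.1 hx)
  have hmapsurj : Function.Surjective (Algebra.TensorProduct.map qA' (AlgHom.id S₀ R')) :=
    Algebra.TensorProduct.map_surjective _ _ (fun x => by
      obtain ⟨x, rfl⟩ := Ideal.Quotient.mk_surjective x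
      exact ⟨Ideal.Quotient.mk L x, rfl⟩) fun r => ⟨r, rfl⟩
  have : Algebra.Etale (D.A ⧸ L) (D.B ⧸ L.map D.t) := etale_quot_t D ht L
  have hbij : Function.Bijective θ := by
    refine bijective_of_mod_nil θ N hN (fun v => ?_) fun w hw => ?_
    · obtain ⟨w, hw⟩ := hmapsurj (E.symm (e₀.symm (qB v)))
      refine ⟨w, hkerq ?_⟩
      rw [RingHom.mem_ker, map_sub, hdia, hw, RingEquiv.apply_symm_apply, RingEquiv.apply_symm_apply, sub_self]
    · have h0 : Algebra.TensorProduct.map qA' (AlgHom.id S₀ R') w = 0 := by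
        apply E.injective
        apply e₀.injective
        rw [← hdia, hw, map_zero, map_zero, map_zero]
      have hk := (Algebra.TensorProduct.rTensor_ker (C := R') qA' (fun x => by
        obtain ⟨x, rfl⟩ := Ideal.Quotient.mk_surjective x
        exact ⟨Ideal.Quotient.mk L x, rfl⟩)).le (RingHom.mem_ker.2 h0)
      have hle : RingHom.ker qA' ≤ N := fun x hx => by
        obtain ⟨x, rfl⟩ := Ideal.Quotient.mk_surjective x
        exact Ideal.mem_map_of_mem _ (Ideal.Quotient.eq_zero_iff_mem.1 hx)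
      exact Ideal.map_mono hle hk
  have hQ : D'.IsQuot := isQuot_of_model D' fL hfL hL (fun _ => rfl)
    ⟨θ.toRingHom, fun a y => hθ a y, hbij⟩
  obtain ⟨h₁, h₂, h₃⟩ := hQ
  exact isQuot_of_nilpotent D hLnil { A₀ := _, π₀ := _, inv := hLinv, flat := h₁, surjective := h₂, sq₀ := h₃ }

end Groth.Agent.GrpdThick
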