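import Groth.Agent.GrpdThick.AffineQuot
import Groth.Agent.GrpdThick.NilQuot

/-!
# Affine étale relations which are quotients modulo a nil ideal
-/

set_option backward.isDefEq.respectTransparency false
set_option backward.isDefEq.respectTransparency.types false

universe u

open CategoryTheory CategoryTheory.Limits AlgebraicGeometry Grpd MorphismProperty

namespace Groth.Agent.GrpdThick

variable {S : Scheme.{u}} (G : GroupoidScheme S) [IsAffine G.U] [IsAffine G.R]

/-- An affine étale relation which modulo a nil invariant ideal is an étale quotient is one. -/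
theorem exists_affine_quotient_nil [Etale G.t] {U₀ V : Scheme.{u}} [IsAffine U₀]
    [IsAffine V] (c : U₀ ⟶ G.U) [IsClosedImmersion c] (hnil : RingHom.ker c.appTop.hom ≤ nilradical Γ(G.U, ⊤))
    (t₀ : pullback G.s c ⟶ U₀) (ht₀ : IsPullback (pullback.fst G.s c) t₀ G.t c) (q₀ : U₀ ⟶ V) [Surjective q₀]
    [Etale q₀] (sq₀ : IsPullback t₀ (pullback.snd G.s c) q₀ q₀) :
    ∃ (Y : Scheme.{u}) (q : G.U ⟶ Y),
      IsAffine Y ∧ Surjective q ∧ Etale q ∧ IsPullback G.t G.s q q := by
  have : IsAffine (pullback G.s c) := inferInstance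
  let D := relOf G
  let J : Ideal D.A := RingHom.ker c.appTop.hom
  let π' : Γ(G.R, ⊤) ⟶ Γ(pullback G.s c, ⊤) := (pullback.fst G.s c).appTop
  have hcs : Function.Surjective c.appTop.hom := c.app_surjective ⊤ (isAffineOpen_top _)
  have hπs : Function.Surjective π'.hom := (pullback.fst G.s c).app_surjective ⊤ (isAffineOpen_top _)
  have hkt : RingHom.ker π'.hom = J.map D.t := ker_eq_map_of_isPushout hcs (isPushout_appTop_of_isPullback ht₀)
  have hks : RingHom.ker π'.hom = J.map D.s :=
    ker_eq_map_of_isPushout hcs (isPushout_appTop_of_isPullback (IsPullback.of_hasPullback G.s c))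
  have hinv : J ≤ (J.map D.t).comap D.s := by
    rw [← hkt, hks]
    exact Ideal.le_comap_map
  let eA : D.A ⧸ J ≃+* Γ(U₀, ⊤) := RingHom.quotientKerEquivOfSurjective hcs
  let eB : D.B ⧸ J.map D.t ≃+* Γ(pullback G.s c, ⊤) :=
    (Ideal.quotEquivOfEq hkt.symm).trans (RingHom.quotientKerEquivOfSurjective hπs)
  have heA : ∀ a, eA (Ideal.Quotient.mk J a) = c.appTop.hom a := fun a => rfl
  let Q : QuotMod D J :=
    { A₀ := Γ(V, ⊤)
      π₀ := eA.symm.toRingHom.comp q₀.appTop.hom
      inv := hinv
      flat := RingHom.Flat.comp q₀.flat_appTop (RingHom.Flat.of_bijective eA.symm.bijective)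
      surjective := by
        rw [PrimeSpectrum.comap_comp]
        refine Function.Surjective.comp (fun p => ?_) fun p => ⟨PrimeSpectrum.comap eA.toRingHom p, by
          rw [← PrimeSpectrum.comap_comp_apply]; simp⟩
        obtain ⟨v, hv⟩ := V.isoSpec.hom.surjective p
        obtain ⟨x, hx⟩ := q₀.surjective v
        exact ⟨U₀.isoSpec.hom x, by rw [← GrpdLib.isoSpec_apply_appTop, hx, hv]⟩
      sq₀ := by
        refine (isPushout_appTop_of_isPullback sq₀).of_iso (Iso.refl _) eA.symm.toCommRingCatIso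
          eA.symm.toCommRingCatIso eB.symm.toCommRingCatIso rfl rfl ?_ ?_
        · refine CommRingCat.hom_ext <| RingHom.ext fun a => ?_
          obtain ⟨b, rfl⟩ := eA.surjective a
          obtain ⟨a, rfl⟩ := Ideal.Quotient.mk_surjective b
          show eB.symm (t₀.appTop.hom (eA (Ideal.Quotient.mk J a))) = Ideal.quotientMap _ D.t Ideal.le_comap_map (eA.symm (eA _))
          rw [RingEquiv.symm_apply_apply, heA, RingEquiv.symm_apply_eq]
          exact (congrArg (fun φ => φ.hom a) (congrArg Scheme.Hom.appTop ht₀.w)).symm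
        · refine CommRingCat.hom_ext <| RingHom.ext fun a => ?_
          obtain ⟨b, rfl⟩ := eA.surjective a
          obtain ⟨a, rfl⟩ := Ideal.Quotient.mk_surjective b
          show eB.symm ((pullback.snd G.s c).appTop.hom (eA (Ideal.Quotient.mk J a))) =
            Ideal.quotientMap _ D.s hinv (eA.symm (eA _))
          rw [RingEquiv.symm_apply_apply, heA, RingEquiv.symm_apply_eq]
          exact (congrArg (fun φ => φ.hom a)
            (congrArg Scheme.Hom.appTop (pullback.condition (f := G.s) (g := c)))).symm }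
  have hπe : Q.π₀.Etale :=
    RingHom.Etale.respectsIso.1 _ eA.symm ((HasRingHomProperty.iff_of_isAffine (P := @Etale)).1 ‹_›)
  have hte : D.t.Etale := (HasRingHomProperty.iff_of_isAffine (P := @Etale)).1 (inferInstanceAs (Etale G.t))
  obtain ⟨hflat, hsurj, hpo⟩ := isQuot_of_nil D J hnil Q hπe hte
  let q : G.U ⟶ Spec (CommRingCat.of (D.s.eqLocus D.t)) :=
    G.U.isoSpec.hom ≫ Spec.map (CommRingCat.ofHom (D.s.eqLocus D.t).subtype)
  have : Surjective (Spec.map (CommRingCat.ofHom (D.s.eqLocus D.t).subtype)) := ⟨hsurj⟩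
  have : Flat (Spec.map (CommRingCat.ofHom (D.s.eqLocus D.t).subtype)) :=
    (HasRingHomProperty.Spec_iff (P := @Flat)).2 hflat
  have hnat : ∀ f : G.R ⟶ G.U, G.R.isoSpec.hom ≫ Spec.map f.appTop = f ≫ G.U.isoSpec.hom := fun f => by
    simp only [Scheme.isoSpec_hom, Scheme.toSpecΓ_naturality]
  have hsq : IsPullback G.t G.s q q :=
    (isPullback_SpecMap_of_isPushout _ _ _ _ hpo).of_iso G.R.isoSpec.symm G.U.isoSpec.symm G.U.isoSpec.symm
      (Iso.refl _)
      (by rw [Iso.symm_hom, Iso.symm_hom, Iso.eq_inv_comp, ← Category.assoc, Iso.comp_inv_eq]; exact hnat G.t)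
      (by rw [Iso.symm_hom, Iso.symm_hom, Iso.eq_inv_comp, ← Category.assoc, Iso.comp_inv_eq]; exact hnat G.s)
      (by simp [q]) (by simp [q])
  have : Etale q :=
    of_isPullback_of_descendsAlong (P := @Etale) (Q := @Surjective ⊓ @Flat ⊓ @QuasiCompact)
      hsq ⟨⟨inferInstance, inferInstance⟩, inferInstance⟩ ‹_›
  exact ⟨_, q, inferInstance, inferInstance, this, hsq⟩

end Groth.Agent.GrpdThick
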