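import Groth.Agent.GrpdThick.GlueFppf
import Groth.Agent.GrpdLib.QuasiSection
import Groth.Agent.SrcDescent.SchemeFppf

/-!
# Quotient over a saturated open from a quotient of a flat chart
-/

set_option backward.isDefEq.respectTransparency false
set_option backward.isDefEq.respectTransparency.types false

universe u

open CategoryTheory CategoryTheory.Limits AlgebraicGeometry Grpd
open Groth.Agent.GrpdLib

noncomputable section

namespace Groth.Agent.GrpdThick

variable {S : Scheme.{u}} (G : GroupoidScheme S)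

/-- An fppf quotient of the pull back along a flat chart gives one over the saturation. -/
theorem exists_quotData_of_chart [Mono G.j] [Flat G.s] [LocallyOfFinitePresentation G.s]
    [Flat G.t] [LocallyOfFinitePresentation G.t] (W : G.U.Opens)
    (hW : IsInv G W) {U' : Scheme.{u}} (g : U' ⟶ G.U) [Flat g] [LocallyOfFinitePresentation g]
    (hg : ∀ x, g x ∈ W) (hsat : ∀ w ∈ W, ∃ r, G.s r = w ∧ G.t r ∈ Set.range g) {Y : Scheme.{u}} (q : U' ⟶ Y)
    [Surjective q] [Flat q] [LocallyOfFinitePresentation q] (hpb : IsPullback (pbT G g) (pbS G g) q q) :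
    Nonempty (QuotData G W) := by
  let P := pullback G.t g
  let τ : P ⟶ U' := pullback.snd G.t g
  have hσW : ∀ v : P, srcMap G g v ∈ W := fun v => by
    show (pullback.fst G.t g ≫ G.s) v ∈ W
    rw [Scheme.Hom.comp_apply]
    refine (hW.mem_iff _).2 ?_
    rw [← Scheme.Hom.comp_apply, pullback.condition, Scheme.Hom.comp_apply]
    exact hg _
  let σ : P ⟶ W.toScheme := IsOpenImmersion.lift W.ι (srcMap G g) (by
    rintro _ ⟨v, rfl⟩
    rw [Scheme.Opens.range_ι]
    exact hσW v)
  have hσ : σ ≫ W.ι = srcMap G g := IsOpenImmersion.lift_fac ..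
  have hsq : IsPullback (𝟙 P) σ (srcMap G g) W.ι :=
    (IsOpenImmersion.isPullback σ (𝟙 P) W.ι (srcMap G g) (by rw [hσ, Category.id_comp]) (by
      ext v
      simp only [Scheme.Hom.coe_opensRange]
      exact ⟨fun _ => ⟨v, rfl⟩, fun _ => by
        show srcMap G g v ∈ Set.range W.ι
        rw [Scheme.Opens.range_ι]
        exact hσW v⟩)).flip
  have : Flat (srcMap G g) := inferInstanceAs (Flat (pullback.fst G.t g ≫ G.s))
  have : LocallyOfFinitePresentation (srcMap G g) :=
    inferInstanceAs (LocallyOfFinitePresentation (pullback.fst G.t g ≫ G.s))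
  have : Flat σ := MorphismProperty.of_isPullback hsq ‹Flat (srcMap G g)›
  have : LocallyOfFinitePresentation σ :=
    MorphismProperty.of_isPullback hsq ‹LocallyOfFinitePresentation (srcMap G g)›
  have : Surjective σ := ⟨fun w => by
    obtain ⟨r, hrs, u, hu⟩ := hsat w.1 w.2
    obtain ⟨v, hv₁, -⟩ := Scheme.Pullback.exists_preimage_pullback r u hu.symm
    refine ⟨v, W.ι.isOpenEmbedding.injective ?_⟩
    rw [← Scheme.Hom.comp_apply, hσ]
    show (pullback.fst G.t g ≫ G.s) v = w.1
    rw [Scheme.Hom.comp_apply, hv₁, hrs]⟩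
  have huniq : ∀ {T : Scheme.{u}} (r r' : T ⟶ G.R), r ≫ G.t = r' ≫ G.t → r ≫ G.s = r' ≫ G.s → r = r' :=
    fun r r' h₁ h₂ => (cancel_mono G.j).1 (pullback.hom_ext (by simpa [GroupoidScheme.j] using h₁)
      (by simpa [GroupoidScheme.j] using h₂))
  have hdesc : ∀ {T : Scheme.{u}} (a b : T ⟶ P), a ≫ σ = b ≫ σ → a ≫ τ ≫ q = b ≫ τ ≫ q := by
    intro T a b h
    obtain ⟨ρ, hρt, hρs⟩ := exists_arrow a b (by rw [← hσ, reassoc_of% h])
    rw [← reassoc_of% hρt, ← reassoc_of% hρs, hpb.w]
  let p : W.toScheme ⟶ Y := EffectiveEpi.desc σ (τ ≫ q) hdesc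
  have hp : σ ≫ p = τ ≫ q := EffectiveEpi.fac ..
  let u' : U' ⟶ P := unitV G g
  have : Surjective τ := ⟨fun x => ⟨u' x, by rw [← Scheme.Hom.comp_apply, unitV_snd]; rfl⟩⟩
  have hps : Surjective p := by
    have : Surjective (σ ≫ p) := by rw [hp]; infer_instance
    exact Surjective.of_comp σ p
  have : Flat τ := inferInstanceAs (Flat (pullback.snd G.t g))
  have : LocallyOfFinitePresentation τ := inferInstanceAs (LocallyOfFinitePresentation (pullback.snd G.t g))
  have hpf : Flat p := GrpdLib.flat_of_flat_comp σ p (by rw [hp]; infer_instance)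
  have : LocallyOfFinitePresentation (σ ≫ p) := by rw [hp]; infer_instance
  have hpl : LocallyOfFinitePresentation p := SrcDescent.locallyOfFinitePresentation_of_fppf_comp σ p
  have w : resT G W hW ≫ p = resS G W ≫ p := by
    let r := pullback.fst (resS G W) σ
    let v := pullback.snd (resS G W) σ
    rw [← cancel_epi r]
    let R₀ := r ≫ (G.s ⁻¹ᵁ W).ι
    have hr : R₀ ≫ G.s = v ≫ pullback.fst G.t g ≫ G.s := by
      have := congrArg (· ≫ W.ι) (pullback.condition (f := resS G W) (g := σ))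
      simp only [Category.assoc, resS_ι, hσ] at this
      simpa only [R₀, Category.assoc, srcMap] using this
    obtain ⟨γ, hγt, hγs⟩ := exists_div (v ≫ pullback.fst G.t g) R₀ (by rw [Category.assoc]; exact hr.symm)
    let v' : pullback (resS G W) σ ⟶ P :=
      pullback.lift γ (v ≫ τ) (by rw [hγt, Category.assoc, pullback.condition, Category.assoc])
    have hv' : v' ≫ σ = r ≫ resT G W hW := by
      rw [← cancel_mono W.ι, Category.assoc, hσ, Category.assoc, resT_ι]
      show v' ≫ pullback.fst G.t g ≫ G.s = _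
      rw [pullback.lift_fst_assoc, hγs, Category.assoc]
    rw [← reassoc_of% hv', hp, reassoc_of% (pullback.condition (f := resS G W) (g := σ)), hp,
      pullback.lift_snd_assoc, Category.assoc]
  have hex : ∀ {T : Scheme.{u}} (a b : T ⟶ W.toScheme), a ≫ p = b ≫ p →
      ∃ r : T ⟶ G.R, r ≫ G.t = a ≫ W.ι ∧ r ≫ G.s = b ≫ W.ι := by
    intro T a b hab
    let π₁ := pullback.fst a σ
    let π₂ := pullback.fst (π₁ ≫ b) σ
    let π := π₂ ≫ π₁
    let va := π₂ ≫ pullback.snd a σ
    let vb := pullback.snd (π₁ ≫ b) σ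
    have hva : va ≫ σ = π ≫ a := by simp only [va, π, π₁, Category.assoc, pullback.condition]
    have hvb : vb ≫ σ = π ≫ b := by
      simp only [vb, π, Category.assoc]
      exact pullback.condition.symm
    have hva' : (va ≫ pullback.fst G.t g) ≫ G.s = π ≫ a ≫ W.ι := by
      rw [← reassoc_of% hva, hσ, srcMap, Category.assoc]
    have hvb' : (vb ≫ pullback.fst G.t g) ≫ G.s = π ≫ b ≫ W.ι := by
      rw [← reassoc_of% hvb, hσ, srcMap, Category.assoc]
    obtain ⟨ρ, hρt, hρs⟩ := hpb.exists_lift (va ≫ τ) (vb ≫ τ) (by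
      rw [Category.assoc va, Category.assoc vb, ← hp, reassoc_of% hva, reassoc_of% hvb, hab])
    have hα : ((va ≫ pullback.fst G.t g) ≫ G.i) ≫ G.s = (ρ ≫ pbMid G g) ≫ G.t := by
      rw [Category.assoc, G.i_s, Category.assoc ρ, pbMid_t, reassoc_of% hρt]
      simp only [τ, Category.assoc, pullback.condition]
    obtain ⟨γ, hγt, hγs⟩ := exists_mul _ _ hα
    have hβ : γ ≫ G.s = (vb ≫ pullback.fst G.t g) ≫ G.t := by
      rw [hγs, Category.assoc ρ, pbMid_s, reassoc_of% hρs]
      simp only [τ, Category.assoc, pullback.condition]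
    obtain ⟨δ, hδt, hδs⟩ := exists_mul _ _ hβ
    have h1 : δ ≫ G.t = π ≫ a ≫ W.ι := by rw [hδt, hγt, Category.assoc _ G.i, G.i_t, hva']
    have h2 : δ ≫ G.s = π ≫ b ≫ W.ι := by rw [hδs, hvb']
    have : Flat π := inferInstance
    have : LocallyOfFinitePresentation π := inferInstance
    have : Surjective π := inferInstance
    have hd : ∀ {Z : Scheme.{u}} (x y : Z ⟶ pullback (π₁ ≫ b) σ), x ≫ π = y ≫ π → x ≫ δ = y ≫ δ :=
      fun x y h => huniq _ _ (by rw [Category.assoc, Category.assoc, h1, reassoc_of% h])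
        (by rw [Category.assoc, Category.assoc, h2, reassoc_of% h])
    refine ⟨EffectiveEpi.desc π δ hd, ?_, ?_⟩
    · rw [← cancel_epi π, EffectiveEpi.fac_assoc, h1]
    · rw [← cancel_epi π, EffectiveEpi.fac_assoc, h2]
  have hlift : ∀ c : PullbackCone p p, ∃ l : c.pt ⟶ (G.s ⁻¹ᵁ W).toScheme,
      l ≫ resT G W hW = c.fst ∧ l ≫ resS G W = c.snd := fun c => by
    obtain ⟨r, hrt, hrs⟩ := hex c.fst c.snd c.condition
    refine ⟨IsOpenImmersion.lift (G.s ⁻¹ᵁ W).ι r ?_, ?_, ?_⟩
    · rintro _ ⟨z, rfl⟩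
      rw [Scheme.Opens.range_ι]
      show G.s (r z) ∈ W
      rw [← Scheme.Hom.comp_apply, hrs, Scheme.Hom.comp_apply]
      exact (c.snd z).2
    · rw [← cancel_mono W.ι, Category.assoc, resT_ι, IsOpenImmersion.lift_fac_assoc, hrt]
    · rw [← cancel_mono W.ι, Category.assoc, resS_ι, IsOpenImmersion.lift_fac_assoc, hrs]
  choose l hl₁ hl₂ using hlift
  exact ⟨{ inv := hW, M := Y, π := p, surj := hps, flat := hpf, lfp := hpl,
           isPullback := ⟨⟨w⟩, ⟨PullbackCone.IsLimit.mk _ l hl₁ hl₂ fun c m h₁ h₂ =>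
             (cancel_mono (G.s ⁻¹ᵁ W).ι).1 (huniq _ _
               (by rw [Category.assoc, Category.assoc, ← resT_ι G W hW, reassoc_of% h₁, reassoc_of% (hl₁ c)])
               (by rw [Category.assoc, Category.assoc, ← resS_ι G W, reassoc_of% h₂, reassoc_of% (hl₂ c)]))⟩⟩ }⟩

end Groth.Agent.GrpdThick
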