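import Groth.Agent.GrpdLib.Restrict
import Mathlib.AlgebraicGeometry.Sites.Fpqc
import Mathlib.AlgebraicGeometry.Morphisms.UniversallyOpen
import Mathlib.AlgebraicGeometry.GluingOneHypercover

/-!
# Gluing fppf quotients of an equivalence relation on saturated opens
-/

set_option backward.isDefEq.respectTransparency false
set_option backward.isDefEq.respectTransparency.types false

universe u

open CategoryTheory CategoryTheory.Limits AlgebraicGeometry Grpd TopologicalSpace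
open Groth.Agent.GrpdLib (IsInv resS resT resS_ι resT_ι exists_glue isInv_of_mem)

noncomputable section

namespace Groth.Agent.GrpdThick

variable {S : Scheme.{u}} (G : GroupoidScheme S)

/-- An fppf quotient of the relation over a saturated open. -/
structure QuotData (W : G.U.Opens) where
  inv : IsInv G W
  M : Scheme.{u}
  π : W.toScheme ⟶ M
  surj : Surjective π
  flat : Flat π
  lfp : LocallyOfFinitePresentation π
  isPullback : IsPullback (resT G W inv) (resS G W) π π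

attribute [instance] QuotData.surj QuotData.flat QuotData.lfp

namespace QuotData

variable {G} {W : G.U.Opens} (D : QuotData G W)

theorem exists_lift_R {T : Scheme.{u}} (a b : T ⟶ W.toScheme) (h : a ≫ D.π = b ≫ D.π) :
    ∃ r : T ⟶ G.R, r ≫ G.t = a ≫ W.ι ∧ r ≫ G.s = b ≫ W.ι := by
  obtain ⟨l, hl₁, hl₂⟩ := D.isPullback.exists_lift a b h
  refine ⟨l ≫ (G.s ⁻¹ᵁ W).ι, ?_, ?_⟩
  · rw [Category.assoc, ← resT_ι G W D.inv, reassoc_of% hl₁]
  · rw [Category.assoc, ← resS_ι G W, reassoc_of% hl₂]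

theorem comp_eq {T : Scheme.{u}} (r : T ⟶ G.R) (a b : T ⟶ W.toScheme) (ha : r ≫ G.t = a ≫ W.ι)
    (hb : r ≫ G.s = b ≫ W.ι) : a ≫ D.π = b ≫ D.π := by
  let k : T ⟶ (G.s ⁻¹ᵁ W).toScheme := IsOpenImmersion.lift (G.s ⁻¹ᵁ W).ι r (by
    rintro _ ⟨z, rfl⟩
    rw [Scheme.Opens.range_ι]
    show G.s (r z) ∈ W
    rw [← Scheme.Hom.comp_apply, hb, Scheme.Hom.comp_apply]
    exact (b z).2)
  have ka : k ≫ resT G W D.inv = a := by
    rw [← cancel_mono W.ι, Category.assoc, resT_ι, IsOpenImmersion.lift_fac_assoc, ha]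
  have kb : k ≫ resS G W = b := by
    rw [← cancel_mono W.ι, Category.assoc, resS_ι, IsOpenImmersion.lift_fac_assoc, hb]
  rw [← ka, ← kb, Category.assoc, Category.assoc, D.isPullback.w]

theorem orbit (x y : W.toScheme) (h : D.π x = D.π y) : ∃ r : G.R, G.t r = x.1 ∧ G.s r = y.1 := by
  obtain ⟨z, hz₁, hz₂⟩ := Scheme.exists_preimage_of_isPullback D.isPullback x y h
  refine ⟨z.1, ?_, ?_⟩
  · rw [← hz₁]
    exact (congrArg (fun φ => φ z) (resT_ι G W D.inv)).symm
  · rw [← hz₂]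
    exact (congrArg (fun φ => φ z) (resS_ι G W)).symm

variable {W' : G.U.Opens} (h : W' ≤ W)

/-- The image of a smaller open in the quotient. -/
def img : D.M.Opens :=
  ⟨D.π '' ((W.ι ⁻¹ᵁ W' : W.toScheme.Opens) : Set W.toScheme), D.π.isOpenMap _ (Opens.isOpen _)⟩

theorem preimage_img (hW' : IsInv G W') : D.π ⁻¹ᵁ D.img (W' := W') = W.ι ⁻¹ᵁ W' := by
  refine Opens.ext (Set.ext fun x => ⟨?_, fun hx => ⟨x, hx, rfl⟩⟩)
  rintro ⟨y, hy, e⟩
  obtain ⟨r, hrt, hrs⟩ := D.orbit x y e.symm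
  show x.1 ∈ W'
  rw [← hrt]
  refine (hW'.mem_iff r).1 ?_
  rw [hrs]
  exact hy

include h in
theorem exists_restrict (hW' : IsInv G W') :
    ∃ D' : QuotData G W', ∃ g : D'.M ⟶ D.M, IsOpenImmersion g ∧ D'.π ≫ g = G.U.homOfLE h ≫ D.π ∧
      Set.range g = D.img (W' := W') := by
  let O := D.img (W' := W')
  have hpre := D.preimage_img hW'
  let d : W'.toScheme ⟶ (D.π ⁻¹ᵁ O).toScheme := IsOpenImmersion.lift (D.π ⁻¹ᵁ O).ι (G.U.homOfLE h) (by
    rintro _ ⟨z, rfl⟩
    rw [Scheme.Opens.range_ι]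
    refine hpre.ge ?_
    show W.ι (G.U.homOfLE h z) ∈ W'
    rw [← Scheme.Hom.comp_apply, Scheme.homOfLE_ι]
    exact z.2)
  let e : (D.π ⁻¹ᵁ O).toScheme ⟶ W'.toScheme := IsOpenImmersion.lift W'.ι ((D.π ⁻¹ᵁ O).ι ≫ W.ι) (by
    rintro _ ⟨z, rfl⟩
    rw [Scheme.Opens.range_ι]
    exact hpre.le z.2)
  have : IsIso d := ⟨e, by
    rw [← cancel_mono W'.ι, Category.assoc, Category.id_comp, IsOpenImmersion.lift_fac,
      IsOpenImmersion.lift_fac_assoc, Scheme.homOfLE_ι], by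
    rw [← cancel_mono (D.π ⁻¹ᵁ O).ι, Category.assoc, Category.id_comp, IsOpenImmersion.lift_fac,
      ← cancel_mono W.ι, Category.assoc, Scheme.homOfLE_ι, IsOpenImmersion.lift_fac]⟩
  let π' : W'.toScheme ⟶ O.toScheme := d ≫ (D.π ∣_ O)
  have hπ' : π' ≫ O.ι = G.U.homOfLE h ≫ D.π := by
    rw [Category.assoc, morphismRestrict_ι, IsOpenImmersion.lift_fac_assoc]
  have : Flat (D.π ∣_ O) := IsZariskiLocalAtTarget.restrict D.flat O
  have : LocallyOfFinitePresentation (D.π ∣_ O) := IsZariskiLocalAtTarget.restrict D.lfp O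
  have : Surjective (D.π ∣_ O) := IsZariskiLocalAtTarget.restrict D.surj O
  have w : resT G W' hW' ≫ π' = resS G W' ≫ π' := by
    rw [← cancel_mono O.ι]
    simp only [Category.assoc]
    rw [hπ',
      ← Category.assoc, ← Category.assoc (resS G W')]
    exact D.comp_eq (G.s ⁻¹ᵁ W').ι _ _ (by rw [Category.assoc, Scheme.homOfLE_ι, resT_ι])
      (by rw [Category.assoc, Scheme.homOfLE_ι, resS_ι])
  have hex : ∀ {T : Scheme.{u}} (a b : T ⟶ W'.toScheme), a ≫ π' = b ≫ π' →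
      ∃ r : T ⟶ (G.s ⁻¹ᵁ W').toScheme, r ≫ resT G W' hW' = a ∧ r ≫ resS G W' = b := by
    intro T a b hab
    obtain ⟨r, hrt, hrs⟩ := D.exists_lift_R (a ≫ G.U.homOfLE h) (b ≫ G.U.homOfLE h) (by
      rw [Category.assoc, Category.assoc, ← hπ', reassoc_of% hab])
    rw [Category.assoc, Scheme.homOfLE_ι] at hrt hrs
    refine ⟨IsOpenImmersion.lift (G.s ⁻¹ᵁ W').ι r ?_, ?_, ?_⟩
    · rintro _ ⟨z, rfl⟩
      rw [Scheme.Opens.range_ι]
      show G.s (r z) ∈ W'
      rw [← Scheme.Hom.comp_apply, hrs, Scheme.Hom.comp_apply]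
      exact (b z).2
    · rw [← cancel_mono W'.ι, Category.assoc, resT_ι, IsOpenImmersion.lift_fac_assoc, hrt]
    · rw [← cancel_mono W'.ι, Category.assoc, resS_ι, IsOpenImmersion.lift_fac_assoc, hrs]
  have huniq : ∀ {T : Scheme.{u}} (r r' : T ⟶ (G.s ⁻¹ᵁ W').toScheme),
      r ≫ resT G W' hW' = r' ≫ resT G W' hW' → r ≫ resS G W' = r' ≫ resS G W' → r = r' := by
    intro T r r' h₁ h₂
    let k : (G.s ⁻¹ᵁ W').toScheme ⟶ (G.s ⁻¹ᵁ W).toScheme := G.R.homOfLE (G.s.preimage_mono h)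
    have k1 : k ≫ resT G W D.inv = resT G W' hW' ≫ G.U.homOfLE h := by
      rw [← cancel_mono W.ι, Category.assoc, Category.assoc, resT_ι, Scheme.homOfLE_ι, resT_ι,
        Scheme.homOfLE_ι_assoc]
    have k2 : k ≫ resS G W = resS G W' ≫ G.U.homOfLE h := by
      rw [← cancel_mono W.ι, Category.assoc, Category.assoc, resS_ι, Scheme.homOfLE_ι, resS_ι,
        Scheme.homOfLE_ι_assoc]
    rw [← cancel_mono k]
    refine D.isPullback.hom_ext ?_ ?_
    · simp only [Category.assoc, k1, reassoc_of% h₁]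
    · simp only [Category.assoc, k2, reassoc_of% h₂]
  choose l hl₁ hl₂ using fun c : PullbackCone π' π' => hex c.fst c.snd c.condition
  refine ⟨{ inv := hW', M := O.toScheme, π := π', surj := inferInstance, flat := inferInstance,
            lfp := inferInstance,
            isPullback := ⟨⟨w⟩, ⟨PullbackCone.IsLimit.mk _ l hl₁ hl₂ fun c m h₁ h₂ => huniq _ _
              (h₁.trans (hl₁ c).symm) (h₂.trans (hl₂ c).symm)⟩⟩ }, O.ι, inferInstance, hπ', O.range_ι⟩

/-- The comparison of two quotients of the same open. -/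
theorem exists_iso (D' : QuotData G W) : ∃ e : D.M ⟶ D'.M, IsIso e ∧ D.π ≫ e = D'.π := by
  have h : ∀ (A B : QuotData G W) {T : Scheme.{u}} (a b : T ⟶ W.toScheme), a ≫ A.π = b ≫ A.π →
      a ≫ B.π = b ≫ B.π := fun A B T a b hab => by
    obtain ⟨r, hrt, hrs⟩ := A.exists_lift_R a b hab
    exact B.comp_eq r a b hrt hrs
  let e := EffectiveEpi.desc D.π D'.π (h D D')
  let e' := EffectiveEpi.desc D'.π D.π (h D' D)
  refine ⟨e, ⟨e', ?_, ?_⟩, EffectiveEpi.fac ..⟩
  · rw [← cancel_epi D.π, Category.comp_id, EffectiveEpi.fac_assoc, EffectiveEpi.fac]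
  · rw [← cancel_epi D'.π, Category.comp_id, EffectiveEpi.fac_assoc, EffectiveEpi.fac]

end QuotData

/-- The saturated opens with a quotient. -/
abbrev InvQuot : Type u := {W : G.U.Opens // Nonempty (QuotData G W)}

namespace InvQuot

variable {G} (j : InvQuot G)

/-- A chosen quotient. -/
abbrev data : QuotData G j.1 := Classical.choice j.2

variable {j} {j' : InvQuot G} (h : j ≤ j')

theorem exists_trans : ∃ g : j.data.M ⟶ j'.data.M, IsOpenImmersion g ∧ j.data.π ≫ g = G.U.homOfLE h ≫ j'.data.π ∧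
    Set.range g = j'.data.img (W' := j.1) := by
  obtain ⟨D', g, hg, hg', hr⟩ := j'.data.exists_restrict h j.data.inv
  obtain ⟨e, he, he'⟩ := j.data.exists_iso D'
  refine ⟨e ≫ g, inferInstance, by rw [reassoc_of% he', hg'], ?_⟩
  rw [← hr, Scheme.Hom.comp_base, TopCat.coe_comp, Set.range_comp, Set.range_eq_univ.2 e.surjective, Set.image_univ]

/-- The transition map. -/
def trans : j.data.M ⟶ j'.data.M := (exists_trans h).choose

theorem π_trans : j.data.π ≫ trans h = G.U.homOfLE h ≫ j'.data.π := (exists_trans h).choose_spec.2.1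

theorem isOpenImmersion_trans : IsOpenImmersion (trans h) := (exists_trans h).choose_spec.1

theorem preimage_range_trans (x : j'.1.toScheme) : j'.data.π x ∈ Set.range (trans h) ↔ x.1 ∈ j.1 := by
  rw [trans, (exists_trans h).choose_spec.2.2]
  exact SetLike.ext_iff.1 (j'.data.preimage_img (W' := j.1) j.data.inv) x

end InvQuot

/-- The diagram of quotients. -/
def quotDiagram : InvQuot G ⥤ Scheme.{u} where
  obj j := j.data.M
  map f := InvQuot.trans (leOfHom f)
  map_id j := (cancel_epi j.data.π).1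
    (by rw [InvQuot.π_trans, Scheme.homOfLE_rfl, Category.id_comp, Category.comp_id])
  map_comp f g := (cancel_epi (InvQuot.data _).π).1 (by
    rw [InvQuot.π_trans, reassoc_of% (InvQuot.π_trans (leOfHom f)), InvQuot.π_trans,
      Scheme.homOfLE_homOfLE_assoc])

instance {i j : InvQuot G} (f : i ⟶ j) : IsOpenImmersion ((quotDiagram G).map f) :=
  InvQuot.isOpenImmersion_trans _

theorem exists_inf (i j : InvQuot G) : ∃ l : InvQuot G, l.1 = i.1 ⊓ j.1 := by
  have hinv : IsInv G (i.1 ⊓ j.1) :=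
    isInv_of_mem fun r hr => ⟨(i.data.inv.mem_iff r).1 hr.1, (j.data.inv.mem_iff r).1 hr.2⟩
  exact ⟨⟨_, ⟨(i.data.exists_restrict (inf_le_left : i.1 ⊓ j.1 ≤ i.1) hinv).choose⟩⟩, rfl⟩

instance : ((quotDiagram G) ⋙ Scheme.forget).IsLocallyDirected := by
  constructor
  intro i j k fi fj xi xj e
  change InvQuot.trans (leOfHom fi) xi = InvQuot.trans (leOfHom fj) xj at e
  obtain ⟨ui, rfl⟩ := i.data.π.surjective xi
  obtain ⟨uj, rfl⟩ := j.data.π.surjective xj
  have e' : k.data.π (G.U.homOfLE (leOfHom fi) ui) = InvQuot.trans (leOfHom fj) (j.data.π uj) := by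
    rw [← e, ← Scheme.Hom.comp_apply, ← InvQuot.π_trans, Scheme.Hom.comp_apply]
  have hj : ui.1 ∈ j.1 := by
    have := (InvQuot.preimage_range_trans (leOfHom fj) (G.U.homOfLE (leOfHom fi) ui)).1 ⟨_, e'.symm⟩
    rwa [show (G.U.homOfLE (leOfHom fi) ui).1 = ui.1 from
      congrArg (fun φ => φ ui) (Scheme.homOfLE_ι G.U (leOfHom fi))] at this
  obtain ⟨l, hl⟩ := exists_inf G i j
  have hli : l ≤ i := hl.le.trans inf_le_left
  have hlj : l ≤ j := hl.le.trans inf_le_right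
  have hmem : ui.1 ∈ l.1 := hl.ge ⟨ui.2, hj⟩
  have hu : G.U.homOfLE hli ⟨ui.1, hmem⟩ = ui :=
    Subtype.ext (congrArg (fun φ => φ (⟨ui.1, hmem⟩ : l.1.toScheme)) (Scheme.homOfLE_ι G.U hli))
  refine ⟨l, homOfLE hli, homOfLE hlj, l.data.π ⟨ui.1, hmem⟩, ?_, ?_⟩
  · change InvQuot.trans _ _ = _
    rw [← Scheme.Hom.comp_apply, InvQuot.π_trans, Scheme.Hom.comp_apply, hu]
  · change InvQuot.trans _ _ = _
    apply (InvQuot.isOpenImmersion_trans (leOfHom fj)).base_open.injective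
    change InvQuot.trans (leOfHom fj) _ = InvQuot.trans (leOfHom fj) _
    rw [← e]
    have h1 : InvQuot.trans (leOfHom fi) (i.data.π ui) =
        InvQuot.trans (leOfHom fi) (i.data.π (G.U.homOfLE hli ⟨ui.1, hmem⟩)) :=
      congrArg (fun u => InvQuot.trans (leOfHom fi) (i.data.π u)) hu.symm
    rw [h1]
    simp only [← Scheme.Hom.comp_apply, Category.assoc, InvQuot.π_trans, Scheme.homOfLE_homOfLE_assoc]

/-- The glued quotient. -/
def quotScheme : Scheme.{u} := colimit (quotDiagram G)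

/-- The inclusion of a quotient. -/
def InvQuot.inc (j : InvQuot G) : j.data.M ⟶ quotScheme G := colimit.ι (quotDiagram G) j

instance (j : InvQuot G) : IsOpenImmersion (InvQuot.inc G j) :=
  inferInstanceAs (IsOpenImmersion (colimit.ι (quotDiagram G) j))

theorem InvQuot.trans_inc {i j : InvQuot G} (h : i ≤ j) : InvQuot.trans h ≫ InvQuot.inc G j = InvQuot.inc G i :=
  colimit.w (quotDiagram G) (homOfLE h)

/-- If the saturated opens with an fppf quotient cover, the relation has an fppf quotient. -/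
theorem exists_quotient_of_cover [Mono G.j] (hc : ∀ x : G.U, ∃ W : G.U.Opens, x ∈ W ∧ Nonempty (QuotData G W)) :
    ∃ (Y : Scheme.{u}) (p : G.U ⟶ Y),
      Surjective p ∧ Flat p ∧ LocallyOfFinitePresentation p ∧ IsPullback G.t G.s p p := by
  replace hc : ∀ x : G.U, ∃ j : InvQuot G, x ∈ j.1 := fun x => by
    obtain ⟨W, hx, hW⟩ := hc x
    exact ⟨⟨W, hW⟩, hx⟩
  have hcov : ⨆ j : InvQuot G, j.1 = ⊤ := eq_top_iff.2 fun x _ => Opens.mem_iSup.2 (hc x)
  obtain ⟨p, hp⟩ := exists_glue (fun j : InvQuot G => j.1) hcov (fun j => j.data.π ≫ InvQuot.inc G j) fun i j => by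
    obtain ⟨⟨l, hl⟩, hl'⟩ := exists_inf G i j
    subst hl'
    have h₁ : (⟨_, hl⟩ : InvQuot G) ≤ i := show i.1 ⊓ j.1 ≤ i.1 from inf_le_left
    have h₂ : (⟨_, hl⟩ : InvQuot G) ≤ j := show i.1 ⊓ j.1 ≤ j.1 from inf_le_right
    rw [← reassoc_of% (InvQuot.π_trans h₁), ← reassoc_of% (InvQuot.π_trans h₂),
      InvQuot.trans_inc, InvQuot.trans_inc]
  have happ : ∀ (j : InvQuot G) (u : j.1.toScheme), p u.1 = InvQuot.inc G j (j.data.π u) := fun j u => by
    show p (j.1.ι u) = _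
    rw [← Scheme.Hom.comp_apply, hp, Scheme.Hom.comp_apply]
  have hmem : ∀ (j : InvQuot G) (x : G.U), p x ∈ Set.range (InvQuot.inc G j) ↔ x ∈ j.1 := by
    intro j x
    refine ⟨?_, fun hx => ⟨j.data.π ⟨x, hx⟩, (happ j ⟨x, hx⟩).symm⟩⟩
    rintro ⟨m, hm⟩
    obtain ⟨i, hi⟩ := hc x
    rw [show p x = InvQuot.inc G i (i.data.π ⟨x, hi⟩) from happ i ⟨x, hi⟩] at hm
    obtain ⟨l, fj, fi, z, -, hzi⟩ := (Scheme.IsLocallyDirected.ι_eq_ι_iff (quotDiagram G)).1 hm
    exact leOfHom fj ((InvQuot.preimage_range_trans (leOfHom fi) ⟨x, hi⟩).1 ⟨z, hzi⟩)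
  have hpb : ∀ j : InvQuot G, IsPullback j.data.π j.1.ι (InvQuot.inc G j) p := fun j =>
    IsOpenImmersion.isPullback _ _ _ _ (hp j) (Opens.ext (Set.ext fun x => by
      show p x ∈ Set.range (InvQuot.inc G j) ↔ x ∈ Set.range j.1.ι
      rw [hmem j, Scheme.Opens.range_ι]
      rfl))
  have hprop : ∀ (P : MorphismProperty Scheme.{u}) [IsZariskiLocalAtTarget P],
      (∀ j : InvQuot G, P j.data.π) → P p := by
    intro P _ h
    refine IsZariskiLocalAtTarget.of_openCover (Scheme.IsLocallyDirected.openCover (quotDiagram G)) fun j => ?_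
    show P (pullback.snd p (InvQuot.inc G j))
    rw [← (hpb j).flip.isoPullback_inv_snd, MorphismProperty.cancel_left_of_respectsIso P]
    exact h j
  have w : G.t ≫ p = G.s ≫ p := by
    refine Scheme.hom_ext_of_forall _ _ fun r => ?_
    obtain ⟨j, hj⟩ := hc (G.s r)
    refine ⟨G.s ⁻¹ᵁ j.1, hj, ?_⟩
    rw [← reassoc_of% (resT_ι G j.1 j.data.inv), hp, ← reassoc_of% (resS_ι G j.1), hp,
      reassoc_of% j.data.isPullback.w]
  have huniq : ∀ {T : Scheme.{u}} (r r' : T ⟶ G.R), r ≫ G.t = r' ≫ G.t → r ≫ G.s = r' ≫ G.s → r = r' :=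
    fun r r' h₁ h₂ => (cancel_mono G.j).1 (pullback.hom_ext (by simpa [GroupoidScheme.j] using h₁)
      (by simpa [GroupoidScheme.j] using h₂))
  have hex : ∀ {T : Scheme.{u}} (a b : T ⟶ G.U), a ≫ p = b ≫ p → ∃ r : T ⟶ G.R, r ≫ G.t = a ∧ r ≫ G.s = b := by
    intro T a b hab
    have hV : ∀ j : InvQuot G, ∃ r : (a ⁻¹ᵁ j.1).toScheme ⟶ G.R,
        r ≫ G.t = (a ⁻¹ᵁ j.1).ι ≫ a ∧ r ≫ G.s = (a ⁻¹ᵁ j.1).ι ≫ b := by
      intro j
      let b' := IsOpenImmersion.lift j.1.ι ((a ⁻¹ᵁ j.1).ι ≫ b) (by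
        rintro _ ⟨z, rfl⟩
        rw [Scheme.Opens.range_ι]
        refine (hmem j _).1 ?_
        rw [← Scheme.Hom.comp_apply, Category.assoc, ← hab, ← Category.assoc, Scheme.Hom.comp_apply]
        exact (hmem j _).2 z.2)
      obtain ⟨r, hrt, hrs⟩ := j.data.exists_lift_R (a ∣_ j.1) b' (by
        rw [← cancel_mono (InvQuot.inc G j), Category.assoc, Category.assoc, ← hp, morphismRestrict_ι_assoc,
          IsOpenImmersion.lift_fac_assoc, hab, Category.assoc])
      exact ⟨r, hrt.trans (morphismRestrict_ι a j.1), hrs.trans (IsOpenImmersion.lift_fac _ _ _)⟩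
    choose r hrt hrs using hV
    have hcov' : ⨆ j : InvQuot G, a ⁻¹ᵁ j.1 = ⊤ := eq_top_iff.2 fun z _ => Opens.mem_iSup.2 (hc (a z))
    obtain ⟨g, hg⟩ := exists_glue _ hcov' r fun i j => huniq _ _
      (by simp only [Category.assoc, hrt, Scheme.homOfLE_ι_assoc])
      (by simp only [Category.assoc, hrs, Scheme.homOfLE_ι_assoc])
    refine ⟨g, ?_, ?_⟩ <;>
    · refine Scheme.hom_ext_of_forall _ _ fun z => ?_
      obtain ⟨j, hj⟩ := hc (a z)
      refine ⟨a ⁻¹ᵁ j.1, hj, ?_⟩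
      rw [reassoc_of% (hg j)]
      first | exact hrt j | exact hrs j
  choose l hl₁ hl₂ using fun c : PullbackCone p p => hex c.fst c.snd c.condition
  exact ⟨quotScheme G, p, hprop @Surjective fun j => j.data.surj, hprop @Flat fun j => j.data.flat,
    hprop @LocallyOfFinitePresentation fun j => j.data.lfp,
    ⟨⟨w⟩, ⟨PullbackCone.IsLimit.mk _ l hl₁ hl₂ fun c m h₁ h₂ => huniq _ _ (h₁.trans (hl₁ c).symm)
      (h₂.trans (hl₂ c).symm)⟩⟩⟩

end Groth.Agent.GrpdThick
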