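import Mathlib.RingTheory.Flat.Basic
import Mathlib.RingTheory.RingHom.Flat
import Mathlib.RingTheory.TensorProduct.Basic
import Mathlib.Algebra.Category.Ring.Constructions
import Mathlib.RingTheory.Ideal.Quotient.Operations

/-!
# Tensoring a module killed by an ideal with a relation which is a quotient modulo that ideal
-/

set_option backward.isDefEq.respectTransparency false
set_option backward.isDefEq.respectTransparency.types false

universe u

open CategoryTheory TensorProduct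

namespace Groth.Agent.GrpdThick

/-- For a pushout `C = R ⊗_A B` and a relation which modulo `J` is `(A ⧸ J) ⊗_{A₀} (A ⧸ J)`, a module
killed by `J` inside `R` tensored with `A ⧸ J` over `A₀` embeds into `C`. -/
theorem exists_key {A R B C A₀ : Type u} [CommRing A] [CommRing R] [CommRing B] [CommRing C] [CommRing A₀]
    (J : Ideal A) [Algebra A₀ (A ⧸ J)] {f : A →+* R} {g : A →+* B} {P₁ : R →+* C} {P₂ : B →+* C}
    (sq : IsPushout (CommRingCat.ofHom f) (CommRingCat.ofHom g) (CommRingCat.ofHom P₁) (CommRingCat.ofHom P₂))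
    (hg : g.Flat) {gb h : A ⧸ J →+* B ⧸ J.map g}
    (hgb : ∀ a, gb (Ideal.Quotient.mk J a) = Ideal.Quotient.mk _ (g a))
    (sq₀ : IsPushout (CommRingCat.ofHom (algebraMap A₀ (A ⧸ J))) (CommRingCat.ofHom (algebraMap A₀ (A ⧸ J)))
      (CommRingCat.ofHom gb) (CommRingCat.ofHom h))
    {M : Type u} [AddCommGroup M] [Module (A ⧸ J) M] [Module A₀ M] [IsScalarTower A₀ (A ⧸ J) M]
    (ι : M →+ R) (hι : Function.Injective ι)
    (hιs : ∀ a m, ι (Ideal.Quotient.mk J a • m) = f a * ι m) :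
    ∃ Φ : M ⊗[A₀] (A ⧸ J) →+ C, Function.Injective Φ ∧
      (∀ m y b, Ideal.Quotient.mk (J.map g) b = h y → Φ (m ⊗ₜ y) = P₁ (ι m) * P₂ b) ∧
      ∀ m b, P₁ (ι m) * P₂ b ∈ Set.range Φ := by
  let A' := A ⧸ J
  let := f.toAlgebra
  let := g.toAlgebra
  have : Module.Flat A B := hg
  let : Module A M := Module.compHom M (Ideal.Quotient.mk J)
  have : IsScalarTower A A' M := ⟨fun a x m => by
    show (a • x) • m = Ideal.Quotient.mk J a • (x • m)
    rw [Algebra.smul_def, mul_smul]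
    rfl⟩
  let := gb.toAlgebra
  let ιA : M →ₗ[A] R :=
    { toFun := ι
      map_add' := ι.map_add
      map_smul' := fun a m => hιs a m }
  -- the pushouts as tensor products
  obtain ⟨eC, heC⟩ : ∃ e : R ⊗[A] B ≃+ C, ∀ r b, e (r ⊗ₜ b) = P₁ r * P₂ b := by
    let i := (CommRingCat.isPushout_tensorProduct A R B).isoIsPushout _ _ sq
    refine ⟨i.commRingCatIsoToRingEquiv.toAddEquiv, fun r b => ?_⟩
    have h1 := congrArg (fun φ => φ.hom r) ((CommRingCat.isPushout_tensorProduct A R B).inl_isoIsPushout_hom _ _ sq)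
    have h2 := congrArg (fun φ => φ.hom b) ((CommRingCat.isPushout_tensorProduct A R B).inr_isoIsPushout_hom _ _ sq)
    show i.hom.hom (r ⊗ₜ b) = _
    rw [show r ⊗ₜ[A] b = (r ⊗ₜ[A] 1) * (1 ⊗ₜ b) by simp, map_mul]
    exact congrArg₂ (· * ·) h1 h2
  obtain ⟨e₀, he₀⟩ : ∃ e : A' ⊗[A₀] A' ≃+* B ⧸ J.map g, ∀ x y, e (x ⊗ₜ y) = gb x * h y := by
    let i := (CommRingCat.isPushout_tensorProduct A₀ A' A').isoIsPushout _ _ sq₀
    refine ⟨i.commRingCatIsoToRingEquiv, fun x y => ?_⟩
    have h1 := congrArg (fun φ => φ.hom x) ((CommRingCat.isPushout_tensorProduct A₀ A' A').inl_isoIsPushout_hom _ _ sq₀)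
    have h2 := congrArg (fun φ => φ.hom y) ((CommRingCat.isPushout_tensorProduct A₀ A' A').inr_isoIsPushout_hom _ _ sq₀)
    show i.hom.hom (x ⊗ₜ y) = _
    rw [show x ⊗ₜ[A₀] y = (x ⊗ₜ[A₀] 1) * (1 ⊗ₜ y) by simp, map_mul]
    exact congrArg₂ (· * ·) h1 h2
  -- the quotient of the relation as a tensor product
  obtain ⟨e₁, he₁⟩ : ∃ e : A' ⊗[A] B ≃ₗ[A'] A' ⊗[A₀] A',
      ∀ x y b, Ideal.Quotient.mk (J.map g) b = h y → e.symm (x ⊗ₜ y) = x ⊗ₜ b := by
    let q : B →ₐ[A] B ⧸ J.map g := Ideal.Quotient.mkₐ A _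
    have : IsScalarTower A A' (B ⧸ J.map g) := IsScalarTower.of_algebraMap_eq fun a => (hgb a).symm
    let ev : A' ⊗[A] B →ₐ[A'] B ⧸ J.map g :=
      Algebra.TensorProduct.lift (Algebra.ofId A' _) q fun _ _ => .all _ _
    have hev : ∀ b, ev (1 ⊗ₜ b) = Ideal.Quotient.mk _ b := fun b => by simp [ev, q]
    have hbij : Function.Bijective ev := by
      have hzero : ∀ b ∈ J.map g, (1 : A') ⊗ₜ[A] b = 0 := by
        intro b hb
        induction hb using Submodule.span_induction with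
        | mem b hb =>
          obtain ⟨j, hj, rfl⟩ := hb
          rw [show g j = j • (1 : B) from (mul_one (g j)).symm, TensorProduct.tmul_smul,
            TensorProduct.smul_tmul', show j • (1 : A') = 0 by
              rw [Algebra.smul_def, mul_one]; exact Ideal.Quotient.eq_zero_iff_mem.2 hj, TensorProduct.zero_tmul]
        | zero => exact TensorProduct.tmul_zero _ _
        | add x y _ _ hx hy => rw [TensorProduct.tmul_add, hx, hy, add_zero]
        | smul c x _ hx =>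
          rw [smul_eq_mul, show (1 : A') ⊗ₜ[A] (c * x) = (1 ⊗ₜ[A] c) * (1 ⊗ₜ[A] x) by simp, hx, mul_zero]
      have hone : ∀ z : A' ⊗[A] B, ∃ b, z = 1 ⊗ₜ b := fun z => by
        induction z using TensorProduct.induction_on with
        | zero => exact ⟨0, (TensorProduct.tmul_zero _ _).symm⟩
        | tmul x b =>
          obtain ⟨a, rfl⟩ := Ideal.Quotient.mk_surjective x
          refine ⟨a • b, ?_⟩
          rw [TensorProduct.tmul_smul, TensorProduct.smul_tmul']
          simp [Algebra.smul_def]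
          rfl
        | add x y hx hy =>
          obtain ⟨b, rfl⟩ := hx
          obtain ⟨b', rfl⟩ := hy
          exact ⟨b + b', (TensorProduct.tmul_add _ _ _).symm⟩
      refine ⟨(injective_iff_map_eq_zero ev).2 fun z hz => ?_, fun y => ?_⟩
      · obtain ⟨b, rfl⟩ := hone z
        rw [hev, Ideal.Quotient.eq_zero_iff_mem] at hz
        exact hzero b hz
      · obtain ⟨b, rfl⟩ := Ideal.Quotient.mk_surjective y
        exact ⟨1 ⊗ₜ b, hev b⟩
    let e₀' : A' ⊗[A₀] A' ≃ₗ[A'] B ⧸ J.map g :=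
      { e₀.toAddEquiv with
        map_smul' := fun c z => by
          show e₀ (c • z) = gb c * e₀ z
          rw [show c • z = (c ⊗ₜ[A₀] (1 : A')) * z by
            induction z using TensorProduct.induction_on with
            | zero => simp
            | tmul x y => rw [TensorProduct.smul_tmul', Algebra.TensorProduct.tmul_mul_tmul, one_mul, smul_eq_mul]
            | add x y hx hy => rw [smul_add, hx, hy, mul_add], map_mul, he₀, map_one, mul_one] }
    refine ⟨(LinearEquiv.ofBijective ev.toLinearMap hbij).trans e₀'.symm, fun x y b hb => ?_⟩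
    rw [LinearEquiv.symm_apply_eq, LinearEquiv.trans_apply, LinearEquiv.eq_symm_apply]
    show e₀ (x ⊗ₜ y) = ev (x ⊗ₜ b)
    rw [he₀, ← hb]
    simp [ev, q]
    rfl
  let c₁ : M ⊗[A] B ≃ₗ[A'] M ⊗[A'] (A' ⊗[A] B) :=
    (AlgebraTensorModule.cancelBaseChange A A' A' M B).symm
  let c₂ : M ⊗[A'] (A' ⊗[A₀] A') ≃ₗ[A'] M ⊗[A₀] A' :=
    AlgebraTensorModule.cancelBaseChange A₀ A' A' M A'
  let θ : M ⊗[A] B ≃ₗ[A'] M ⊗[A₀] A' :=
    (c₁.trans (TensorProduct.congr (LinearEquiv.refl A' M) e₁)).trans c₂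
  have hθ : ∀ m y b, Ideal.Quotient.mk (J.map g) b = h y → θ (m ⊗ₜ b) = m ⊗ₜ y := by
    intro m y b hb
    have : e₁ (1 ⊗ₜ b) = 1 ⊗ₜ y := by rw [← he₁ 1 y b hb, LinearEquiv.apply_symm_apply]
    simp [θ, c₁, c₂, this]
  let Φ : M ⊗[A₀] A' →+ C :=
    (eC.toAddMonoidHom.comp (ιA.rTensor B).toAddMonoidHom).comp θ.symm.toAddEquiv.toAddMonoidHom
  have hΦ : ∀ z, Φ (θ z) = eC (ιA.rTensor B z) := fun z => by simp [Φ]
  refine ⟨Φ, ?_, fun m y b hb => ?_, fun m b => ⟨θ (m ⊗ₜ b), ?_⟩⟩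
  · exact eC.injective.comp ((Module.Flat.rTensor_preserves_injective_linearMap ιA hι).comp θ.symm.injective)
  · rw [← hθ m y b hb, hΦ, LinearMap.rTensor_tmul, heC]
    rfl
  · rw [hΦ, LinearMap.rTensor_tmul, heC]
    rfl

end Groth.Agent.GrpdThick
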