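import Groth.Agent.GrpdThick.Descend
import Groth.Agent.GrpdThick.AffineQuot
import Groth.Agent.MorLib.Thick.Affine
import Groth.Prelude.Def_MoreMor
import Mathlib.AlgebraicGeometry.Limits

/-!
# Quotients along nilpotent thickenings of equivalence relations
-/

set_option backward.isDefEq.respectTransparency false
set_option backward.isDefEq.respectTransparency.types false

universe u

open CategoryTheory CategoryTheory.Limits AlgebraicGeometry Grpd TopologicalSpace
open Groth.Agent.GrpdLib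

noncomputable section

namespace Groth.Agent.GrpdThick

/-- The pullback of a finite order thickening to an affine scheme covered by affine opens of the
target has nilpotent ideal. -/
theorem isNilpotent_ker_appTop {X X₀ : Scheme.{u}} (c₀ : X₀ ⟶ X) [IsClosedImmersion c₀] (hker : IsNilpotent c₀.ker)
    {ι : Type u} (Wf : ι → X.Opens) (hW : ∀ i, IsAffineOpen (Wf i)) :
    IsNilpotent (RingHom.ker (pullback.fst (Limits.Sigma.desc fun i => (Wf i).ι) c₀).appTop.hom) := by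
  let g : (∐ fun i => (Wf i).toScheme) ⟶ X := Limits.Sigma.desc fun i => (Wf i).ι
  let c' := pullback.fst g c₀
  obtain ⟨n, hn⟩ := hker
  refine ⟨n, eq_bot_iff.2 fun a ha => ?_⟩
  refine (Ideal.mem_bot).2 (Scheme.zero_of_zero_cover a (sigmaOpenCover _) fun i => ?_)
  let ιi : (Wf i).toScheme ⟶ ∐ fun i => (Wf i).toScheme := Limits.Sigma.ι (fun i => (Wf i).toScheme) i
  show ιi.appTop.hom a = 0
  let k : (c₀ ⁻¹ᵁ Wf i).toScheme ⟶ pullback g c₀ :=
    pullback.lift ((c₀ ∣_ Wf i) ≫ ιi) (c₀ ⁻¹ᵁ Wf i).ι (by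
      rw [Category.assoc, Limits.Sigma.ι_desc, morphismRestrict_ι])
  have hk : k ≫ c' = (c₀ ∣_ Wf i) ≫ ιi := pullback.lift_fst ..
  let I := (RingHom.ker c'.appTop.hom).map ιi.appTop.hom
  let e := (Wf i).topIso.hom.hom
  have hI : I.map e ≤ c₀.ker.ideal ⟨Wf i, hW i⟩ := by
    rw [Ideal.map_map, Ideal.map_le_iff_le_comap]
    intro b hb
    rw [Ideal.mem_comap, Scheme.Hom.ker_apply, RingHom.mem_ker]
    have h1 : (c₀ ∣_ Wf i).appTop.hom (ιi.appTop.hom b) = 0 := by
      have := congrArg (fun φ => φ.hom b) (congrArg Scheme.Hom.appTop hk)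
      simp only [Scheme.Hom.comp_appTop, CommRingCat.hom_comp, RingHom.comp_apply] at this
      rw [← this, show c'.appTop.hom b = 0 from hb, map_zero]
    rw [morphismRestrict_appTop'] at h1
    simp only [CommRingCat.hom_comp, RingHom.comp_apply] at h1
    exact ((c₀ ⁻¹ᵁ Wf i).topIso.symm.commRingCatIsoToRingEquiv.map_eq_zero_iff).1 h1
  have hmem : e (ιi.appTop.hom a) ∈ (c₀.ker.ideal ⟨Wf i, hW i⟩) ^ n := by
    refine Ideal.pow_right_mono hI n ?_
    rw [← Ideal.map_pow]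
    refine Ideal.mem_map_of_mem _ ?_
    rw [← Ideal.map_pow]
    exact Ideal.mem_map_of_mem _ ha
  have h0 : (c₀.ker.ideal ⟨Wf i, hW i⟩) ^ n = ⊥ := congrArg (fun K => K.ideal ⟨Wf i, hW i⟩) hn
  rw [h0, Ideal.mem_bot] at hmem
  exact ((Wf i).topIso.commRingCatIsoToRingEquiv.map_eq_zero_iff).1 hmem

variable {S : Scheme.{u}} (G : GroupoidScheme S) {U₀ : Scheme.{u}} (c₀ : U₀ ⟶ G.U) [IsClosedImmersion c₀]
  [Surjective c₀] (ψ : pullback G.s c₀ ≅ pullback G.t c₀) (hψ : ψ.hom ≫ pullback.fst G.t c₀ = pullback.fst G.s c₀)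

omit [IsClosedImmersion c₀] [Surjective c₀] in
include hψ in
theorem hψ_t : pullback.fst G.s c₀ ≫ G.t = (ψ.hom ≫ pullback.snd G.t c₀) ≫ c₀ := by
  rw [← hψ, Category.assoc, pullback.condition, Category.assoc]

variable {Y₀ : Scheme.{u}} {p₀ : U₀ ⟶ Y₀}

include hψ in
/-- Around every point there is a saturated open with a quotient. -/
theorem exists_quotData (hker : IsNilpotent c₀.ker) [Mono G.j] [Flat G.s] [LocallyOfFinitePresentation G.s] [Flat G.t]
    [LocallyOfFinitePresentation G.t] [Surjective p₀] [Flat p₀] [LocallyOfFinitePresentation p₀]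
    (h₀ : IsPullback (ψ.hom ≫ pullback.snd G.t c₀) (pullback.snd G.s c₀) p₀ p₀) (x : G.U) :
    ∃ W : G.U.Opens, x ∈ W ∧ Nonempty (QuotData G W) := by
  classical
  obtain ⟨x₀, hx₀⟩ := c₀.surjective x
  obtain ⟨V, hV, hxV⟩ := exists_affineOpen_mem (p₀ x₀)
  let hhom := IsHomeomorph.homeomorph _ (isHomeomorph_iff_isEmbedding_surjective.2 ⟨c₀.isClosedEmbedding.isEmbedding, c₀.surjective⟩)
  let O : G.U.Opens := ⟨c₀ '' ((p₀ ⁻¹ᵁ V : U₀.Opens) : Set U₀),
    hhom.isOpenMap _ (p₀ ⁻¹ᵁ V).isOpen⟩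
  have hO : ∀ z, c₀ z ∈ O ↔ p₀ z ∈ V := fun z => by
    refine ⟨fun h => ?_, fun h => ⟨z, h, rfl⟩⟩
    obtain ⟨y, hy, e⟩ := h
    exact (c₀.isClosedEmbedding.injective e) ▸ (show p₀ y ∈ V from hy)
  have hxO : x ∈ O := by rw [← hx₀, hO]; exact hxV
  have hOinv : IsInv G O := isInv_of_mem fun r hr => by
    obtain ⟨z, rfl⟩ := (pullback.fst G.s c₀).surjective r
    rw [← Scheme.Hom.comp_apply, pullback.condition, Scheme.Hom.comp_apply, hO] at hr
    rw [← Scheme.Hom.comp_apply, hψ_t G c₀ ψ hψ, Scheme.Hom.comp_apply, hO, ← Scheme.Hom.comp_apply, h₀.w,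
      Scheme.Hom.comp_apply]
    exact hr
  have : IsAffine V.toScheme := hV
  -- finitely many affine opens
  have hnb : ∀ v : V, ∃ (z : U₀) (W : G.U.Opens), p₀ z = v.1 ∧ IsAffineOpen W ∧ c₀ z ∈ W ∧ W ≤ O := fun v => by
    obtain ⟨z, hz⟩ := p₀.surjective v.1
    obtain ⟨_, ⟨W, hW, rfl⟩, hzW, hWO⟩ :=
      G.U.isBasis_affineOpens.exists_subset_of_mem_open ((hO z).2 (hz ▸ v.2) : c₀ z ∈ (O : Set G.U)) O.isOpen
    exact ⟨z, W, hz, hW, hzW, hWO⟩
  choose z Wz hz hWz hzW hWO using hnb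
  obtain ⟨T, hT⟩ := hV.isCompact.elim_finite_subcover
    (fun v : V => p₀ '' (c₀ ⁻¹' (Wz v : Set G.U))) (fun v => p₀.isOpenMap _ ((Wz v).isOpen.preimage c₀.continuous))
    fun y hy => Set.mem_iUnion.2 ⟨⟨y, hy⟩, z ⟨y, hy⟩, hzW _, hz _⟩
  let Wf : {v : V // v ∈ T} → G.U.Opens := fun v => Wz v.1
  have : ∀ v, IsAffine (Wf v).toScheme := fun v => hWz v.1
  let U' : Scheme.{u} := ∐ fun v => (Wf v).toScheme
  let g : U' ⟶ G.U := Limits.Sigma.desc fun v => (Wf v).ι
  have : IsAffine U' := inferInstanceAs (IsAffine (∐ _))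
  have : Flat g := IsZariskiLocalAtSource.sigmaDesc (P := @Flat) fun _ => inferInstance
  have : LocallyOfFinitePresentation g :=
    IsZariskiLocalAtSource.sigmaDesc (P := @LocallyOfFinitePresentation) fun _ => inferInstance
  have hgι : ∀ v, Limits.Sigma.ι (fun v => (Wf v).toScheme) v ≫ g = (Wf v).ι := fun v => Limits.Sigma.ι_desc _ _
  have hgO : ∀ u, g u ∈ O := fun u => by
    obtain ⟨v, w, rfl⟩ : ∃ v w, Limits.Sigma.ι (fun v => (Wf v).toScheme) v w = u := by
      obtain ⟨i, y, hy⟩ := (sigmaOpenCover fun v => (Wf v).toScheme).exists_eq u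
      exact ⟨i, y, hy⟩
    rw [← Scheme.Hom.comp_apply, hgι]
    exact hWO v.1 w.2
  have hgV : ∀ y ∈ V, ∃ u z', g u = c₀ z' ∧ p₀ z' = y := fun y hy => by
    obtain ⟨v, hv, z', hz', e⟩ := Set.mem_iUnion₂.1 (hT hy)
    refine ⟨Limits.Sigma.ι (fun v => (Wf v).toScheme) ⟨v, hv⟩ ⟨c₀ z', hz'⟩, z', ?_, e⟩
    rw [← Scheme.Hom.comp_apply, hgι]
    rfl
  have hsat : ∀ w ∈ O, ∃ r, G.s r = w ∧ G.t r ∈ Set.range g := fun w hw => by
    obtain ⟨z₁, rfl⟩ := c₀.surjective w
    obtain ⟨u, z', hu, he⟩ := hgV _ ((hO z₁).1 hw)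
    obtain ⟨ζ, hζ₁, hζ₂⟩ := Scheme.exists_preimage_of_isPullback h₀ z' z₁ he
    refine ⟨pullback.fst G.s c₀ ζ, ?_, u, ?_⟩
    · rw [← Scheme.Hom.comp_apply, pullback.condition, Scheme.Hom.comp_apply, hζ₂]
    · rw [← Scheme.Hom.comp_apply, hψ_t G c₀ ψ hψ, Scheme.Hom.comp_apply, hζ₁, hu]
  -- the closed part of the chart
  let c' := pullback.fst g c₀
  let g₀ := pullback.snd g c₀
  have : IsAffine (pullback g c₀) := isAffine_of_isAffineHom c'
  have : Surjective c' := inferInstanceAs (Surjective (pullback.fst g c₀))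
  let q₀ : pullback g c₀ ⟶ V.toScheme := IsOpenImmersion.lift V.ι (g₀ ≫ p₀) (by
    rintro _ ⟨w, rfl⟩
    rw [Scheme.Opens.range_ι]
    refine (hO (g₀ w)).1 ?_
    rw [← Scheme.Hom.comp_apply, ← pullback.condition, Scheme.Hom.comp_apply]
    exact hgO _)
  have hq₀ : q₀ ≫ V.ι = g₀ ≫ p₀ := IsOpenImmersion.lift_fac ..
  have hsq₀ : IsPullback (𝟙 _) q₀ (g₀ ≫ p₀) V.ι :=
    (IsOpenImmersion.isPullback q₀ (𝟙 _) V.ι (g₀ ≫ p₀) (by rw [hq₀, Category.id_comp]) (by
      ext w
      simp only [Scheme.Hom.coe_opensRange]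
      exact ⟨fun _ => ⟨w, rfl⟩, fun _ => ⟨q₀ w, by rw [← Scheme.Hom.comp_apply, hq₀]⟩⟩)).flip
  have : Flat q₀ := MorphismProperty.of_isPullback hsq₀ (inferInstanceAs (Flat (g₀ ≫ p₀)))
  have : Surjective q₀ := ⟨fun y => by
    obtain ⟨u, z', hu, he⟩ := hgV y.1 y.2
    obtain ⟨w, -, hw⟩ := Scheme.Pullback.exists_preimage_pullback u z' hu
    refine ⟨w, V.ι.isOpenEmbedding.injective ?_⟩
    rw [← Scheme.Hom.comp_apply, hq₀, Scheme.Hom.comp_apply]
    exact (congrArg p₀ hw).trans he⟩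
  -- the pulled back relation
  let G' := pullBackGrpd G g
  have : Mono G'.j := mono_j_pullBackGrpd G g
  have : IsAffine G'.U := ‹IsAffine U'›
  have hfr : pullback.fst G'.s c' ≫ pbMid G g ≫ G.s = (pullback.snd G'.s c' ≫ g₀) ≫ c₀ := by
    rw [pbMid_s, ← Category.assoc, show pbS G g = G'.s from rfl, pullback.condition, Category.assoc,
      pullback.condition, Category.assoc]
  let ζ : pullback G'.s c' ⟶ pullback G.s c₀ :=
    pullback.lift (pullback.fst G'.s c' ≫ pbMid G g) (pullback.snd G'.s c' ≫ g₀) (by rw [Category.assoc, hfr])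
  have hζt : ζ ≫ (ψ.hom ≫ pullback.snd G.t c₀) ≫ c₀ = (pullback.fst G'.s c' ≫ pbT G g) ≫ g := by
    rw [← hψ_t G c₀ ψ hψ, pullback.lift_fst_assoc, Category.assoc, pbMid_t, Category.assoc]
  let t₀ : pullback G'.s c' ⟶ pullback g c₀ :=
    pullback.lift (pullback.fst G'.s c' ≫ pbT G g) (ζ ≫ ψ.hom ≫ pullback.snd G.t c₀) (by
      rw [← hζt]; simp only [Category.assoc])
  have ht₀c : t₀ ≫ c' = pullback.fst G'.s c' ≫ G'.t := pullback.lift_fst ..
  have ht₀g : t₀ ≫ g₀ = ζ ≫ ψ.hom ≫ pullback.snd G.t c₀ := pullback.lift_snd ..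
  have hmono : Mono c' := inferInstanceAs (Mono (pullback.fst g c₀))
  have sq₀ : IsPullback t₀ (pullback.snd G'.s c') q₀ q₀ := by
    have w : t₀ ≫ q₀ = pullback.snd G'.s c' ≫ q₀ := by
      have hw := h₀.w
      simp only [Category.assoc] at hw
      rw [← cancel_mono V.ι, Category.assoc, Category.assoc, hq₀, reassoc_of% ht₀g, hw]
      simp only [ζ, Category.assoc, pullback.lift_snd_assoc]
    have hex : ∀ c : PullbackCone q₀ q₀, ∃ l : c.pt ⟶ pullback G'.s c',
        l ≫ t₀ = c.fst ∧ l ≫ pullback.snd G'.s c' = c.snd := fun c => by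
      obtain ⟨ξ, hξt, hξs⟩ := h₀.exists_lift (c.fst ≫ g₀) (c.snd ≫ g₀) (by
        rw [Category.assoc, Category.assoc, ← hq₀, reassoc_of% c.condition])
      have hrt : (ξ ≫ pullback.fst G.s c₀) ≫ G.t = (c.fst ≫ c') ≫ g := by
        rw [Category.assoc, hψ_t G c₀ ψ hψ, ← Category.assoc ξ, hξt, Category.assoc, Category.assoc,
          pullback.condition]
      have hrs : (ξ ≫ pullback.fst G.s c₀) ≫ G.s = (c.snd ≫ c') ≫ g := by
        rw [Category.assoc, pullback.condition, reassoc_of% hξs, Category.assoc, pullback.condition]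
      refine ⟨pullback.lift (pbMk G g _ _ _ hrt hrs) c.snd (pbMk_s ..), ?_, pullback.lift_snd ..⟩
      rw [← cancel_mono c', Category.assoc, ht₀c, pullback.lift_fst_assoc]
      exact pbMk_t ..
    choose l hl₁ hl₂ using hex
    refine ⟨⟨w⟩, ⟨PullbackCone.IsLimit.mk _ l hl₁ hl₂ fun c m h₁ h₂ => ?_⟩⟩
    apply pullback.hom_ext
    · rw [← cancel_mono G'.j]
      apply pullback.hom_ext
      · simp only [GroupoidScheme.j, Category.assoc, pullback.lift_fst, ← ht₀c, reassoc_of% h₁, reassoc_of% (hl₁ c)]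
      · simp only [GroupoidScheme.j, Category.assoc, pullback.lift_snd, pullback.condition, reassoc_of% h₂,
          reassoc_of% (hl₂ c)]
    · rw [h₂, hl₂ c]
  have ht₀ : IsPullback (pullback.fst G'.s c') t₀ G'.t c' := by
    have hex : ∀ c : PullbackCone G'.t c', ∃ l : c.pt ⟶ pullback G'.s c',
        l ≫ pullback.fst G'.s c' = c.fst ∧ l ≫ t₀ = c.snd := fun c => by
      have hz : (c.fst ≫ pbMid G g) ≫ G.t = (c.snd ≫ g₀) ≫ c₀ := by
        rw [Category.assoc, pbMid_t, ← Category.assoc, show pbT G g = G'.t from rfl, c.condition, Category.assoc,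
          pullback.condition, Category.assoc]
      let η := pullback.lift _ _ hz ≫ ψ.inv
      have hη : η ≫ pullback.fst G.s c₀ = c.fst ≫ pbMid G g := by
        simp only [η, Category.assoc, ← hψ, Iso.inv_hom_id_assoc, pullback.lift_fst]
      let b := pullback.lift (c.fst ≫ G'.s) (η ≫ pullback.snd G.s c₀) (by
        rw [Category.assoc, Category.assoc, ← pullback.condition, reassoc_of% hη, pbMid_s]
        rfl)
      refine ⟨pullback.lift c.fst b (pullback.lift_fst ..).symm, pullback.lift_fst .., ?_⟩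
      rw [← cancel_mono c', Category.assoc, ht₀c, pullback.lift_fst_assoc, c.condition]
    choose l hl₁ hl₂ using hex
    refine ⟨⟨ht₀c.symm⟩, ⟨PullbackCone.IsLimit.mk _ l hl₁ hl₂ fun c m h₁ h₂ => ?_⟩⟩
    apply pullback.hom_ext
    · rw [h₁, hl₁ c]
    · rw [← cancel_mono c', Category.assoc, Category.assoc, ← pullback.condition, reassoc_of% h₁,
        reassoc_of% (hl₁ c)]
  have : IsAffineHom q₀ := isAffineHom_of_isAffine q₀
  have : IsAffine (pullback G'.s c') := IsAffine.of_isPullback sq₀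
  have : IsClosedImmersion (pullback.fst G'.s c') := inferInstance
  have : IsAffine G'.R := MorLib.Thick.isAffine_of_thickening (pullback.fst G'.s c') (Surjective.surj)
  have : Flat G'.t := inferInstanceAs (Flat (pullback.fst (srcMap G g) g ≫ pullback.snd G.t g))
  have : LocallyOfFinitePresentation G'.t :=
    inferInstanceAs (LocallyOfFinitePresentation (pullback.fst (srcMap G g) g ≫ pullback.snd G.t g))
  obtain ⟨Y, q, -, hqs, hqf, hql, hq⟩ := exists_affine_quotient G' c'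
    (isNilpotent_ker_appTop c₀ hker Wf fun v => hWz v.1) t₀ ht₀ q₀ sq₀
  exact ⟨O, hxO, exists_quotData_of_chart G O hOinv g hgO hsat q hq⟩

include hψ in
/-- An equivalence relation which is an fppf quotient modulo a nilpotent saturated ideal is one. -/
theorem exists_quotient_of_thickening (hker : IsNilpotent c₀.ker) [Mono G.j] [Flat G.s]
    [LocallyOfFinitePresentation G.s] [Flat G.t] [LocallyOfFinitePresentation G.t] [Surjective p₀] [Flat p₀]
    [LocallyOfFinitePresentation p₀]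
    (h₀ : IsPullback (ψ.hom ≫ pullback.snd G.t c₀) (pullback.snd G.s c₀) p₀ p₀) :
    ∃ (Y : Scheme.{u}) (p : G.U ⟶ Y),
      Surjective p ∧ Flat p ∧ LocallyOfFinitePresentation p ∧ IsPullback G.t G.s p p :=
  exists_quotient_of_cover G (exists_quotData G c₀ ψ hψ hker h₀)

end Groth.Agent.GrpdThick
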