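import Mathlib.RingTheory.Etale.Basic
import Mathlib.RingTheory.Unramified.Finite
import Mathlib.RingTheory.Localization.Integral
import Mathlib.RingTheory.Localization.BaseChange
import Mathlib.RingTheory.Ideal.MinimalPrime.Noetherian
import Mathlib.RingTheory.Ideal.MinimalPrime.Basic
import Mathlib.RingTheory.FiniteStability
import Mathlib.Algebra.Polynomial.Lifts
import Mathlib.RingTheory.IntegralClosure.IsIntegralClosure.Basic
import Mathlib.RingTheory.TensorProduct.Finite

/-!
# Generic finiteness of étale algebras, and finiteness modulo nil ideals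
-/

set_option backward.isDefEq.respectTransparency false
set_option backward.isDefEq.respectTransparency.types false

universe u

open TensorProduct Polynomial

namespace Groth.Agent.GrpdThick

/-- An étale algebra over a Noetherian ring is finite around a generic point of a closed subset. -/
theorem exists_generic_relation {R S : Type u} [CommRing R] [IsNoetherianRing R] [CommRing S] [Algebra R S]
    [Algebra.Etale R S] (I : Ideal R) (hrad : I.IsRadical) (hI : I ≠ ⊤) (T : Finset S) :
    ∃ g ∉ I, ∀ r ∈ T, ∃ P : R[X], P.leadingCoeff ∣ g ∧ aeval r P ∈ I.map (algebraMap R S) := by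
  classical
  obtain ⟨m, hm, hIm⟩ := Ideal.exists_le_maximal I hI
  obtain ⟨η, hη, -⟩ := Ideal.exists_minimalPrimes_le (J := m) hIm
  have := hη.isPrime
  -- an element off `η` multiplying `η` into `I`
  have hfin := I.finite_minimalPrimes_of_isNoetherianRing
  have hsep : ∀ q ∈ I.minimalPrimes, q ≠ η → ∃ x ∈ q, x ∉ η := fun q hq hne => by
    by_contra h
    push Not at h
    exact hne (le_antisymm h (hη.2 ⟨hq.isPrime, hq.le⟩ h))
  choose! x hxq hxη using hsep
  let g₁ := ∏ q ∈ hfin.toFinset.erase η, x q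
  have hg₁ : g₁ ∉ η := fun h => by
    obtain ⟨q, hq, hxq'⟩ := (Ideal.IsPrime.prod_mem_iff.1 h)
    rw [Finset.mem_erase, Set.Finite.mem_toFinset] at hq
    exact hxη q hq.2 hq.1 hxq'
  have hg₁η : ∀ a ∈ η, g₁ * a ∈ I := fun a ha => by
    rw [← hrad.radical, ← Ideal.sInf_minimalPrimes, Submodule.mem_sInf]
    intro q hq
    rcases eq_or_ne q η with rfl | hne
    · exact Ideal.mul_mem_left _ _ ha
    · exact Ideal.mul_mem_right _ _ (Ideal.mem_of_dvd _ (Finset.dvd_prod_of_mem x
        (Finset.mem_erase.2 ⟨hne, hfin.mem_toFinset.2 hq⟩)) (hxq q hq hne))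
  have hg₁map : ∀ s ∈ η.map (algebraMap R S), algebraMap R S g₁ * s ∈ I.map (algebraMap R S) := by
    intro s hs
    induction hs using Submodule.span_induction with
    | mem s hs =>
      obtain ⟨a, ha, rfl⟩ := hs
      rw [← map_mul]; exact Ideal.mem_map_of_mem _ (hg₁η a ha)
    | zero => rw [mul_zero]; exact zero_mem _
    | add s t _ _ hs ht => rw [mul_add]; exact add_mem hs ht
    | smul c s _ hs => rw [smul_eq_mul, mul_left_comm]; exact Ideal.mul_mem_left _ _ hs
  -- over the fraction field of `R ⧸ η`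
  let D := R ⧸ η
  let K := FractionRing D
  let W := D ⊗[R] S
  let KW := K ⊗[D] W
  have : Algebra.Etale K KW := inferInstance
  have : Module.Finite K KW := Algebra.FormallyUnramified.finite_of_free K KW
  have hrel : ∀ r : S, ∃ c : R, c ∉ η ∧ ∃ P : R[X], P.leadingCoeff = c ∧ aeval r P ∈ I.map (algebraMap R S) := by
    intro r
    let r₁ : KW := (1 : K) ⊗ₜ ((1 : D) ⊗ₜ r)
    have : Algebra.IsIntegral K KW := Algebra.IsIntegral.of_finite K KW
    obtain ⟨p, hp, hpr⟩ := (Algebra.IsIntegral.isIntegral (R := K) r₁ : IsIntegral K r₁)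
    obtain ⟨b, hbm, hb⟩ := IsLocalization.integerNormalization_spec (nonZeroDivisors D) p
    let p₁ := IsLocalization.integerNormalization (nonZeroDivisors D) p
    have hb0 : algebraMap D K b ≠ 0 :=
      IsFractionRing.to_map_ne_zero_of_mem_nonZeroDivisors hbm
    have hp₁ : p₁.leadingCoeff ≠ 0 := fun h => by
      rw [leadingCoeff_eq_zero] at h
      rw [show IsLocalization.integerNormalization (nonZeroDivisors D) p = 0 from h, Polynomial.map_zero,
        ← algebraMap_smul K, smul_eq_C_mul] at hb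
      exact mul_ne_zero (by simpa using hb0) hp.ne_zero hb.symm
    obtain ⟨P₀, hP₀, hdeg⟩ := exists_natDegree_eq_of_mem_lifts
      (mem_lifts_of_surjective (f := Ideal.Quotient.mk η) Ideal.Quotient.mk_surjective p₁)
    have hlead : P₀.leadingCoeff ∉ η := fun h => hp₁ (by
      rw [leadingCoeff, ← hdeg, ← hP₀, coeff_map]
      exact Ideal.Quotient.eq_zero_iff_mem.2 h)
    have h0 : (1 : K) ⊗ₜ[D] ((1 : D) ⊗ₜ[R] aeval r P₀) = (0 : KW) := by
      have e1 : (1 : K) ⊗ₜ[D] ((1 : D) ⊗ₜ[R] aeval r P₀) = aeval r₁ p₁ := by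
        rw [← hP₀, show Ideal.Quotient.mk η = algebraMap R D from rfl, aeval_map_algebraMap]
        exact (aeval_algHom_apply ((Algebra.TensorProduct.includeRight.restrictScalars R).comp
          (Algebra.TensorProduct.includeRight : S →ₐ[R] W)) r P₀).symm
      rw [e1, ← aeval_map_algebraMap K, hb, ← algebraMap_smul K b p, map_smul, show aeval r₁ p = 0 from hpr, smul_zero]
    have h1 : TensorProduct.mk D K W 1 ((1 : D) ⊗ₜ[R] aeval r P₀) = TensorProduct.mk D K W 1 0 := by simpa using h0
    obtain ⟨⟨d, hd⟩, hd0⟩ := (IsLocalizedModule.eq_iff_exists (nonZeroDivisors D) _).1 h1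
    obtain ⟨c, rfl⟩ := Ideal.Quotient.mk_surjective d
    rw [smul_zero, Submonoid.smul_def] at hd0
    have hc : c ∉ η := fun h => nonZeroDivisors.ne_zero hd (Ideal.Quotient.eq_zero_iff_mem.2 h)
    have hmem : algebraMap R S c * aeval r P₀ ∈ η.map (algebraMap R S) := by
      have hd1 : (1 : D) ⊗ₜ[R] (c • aeval r P₀) = (0 : W) := by
        rw [TensorProduct.tmul_smul, ← algebraMap_smul D c]; exact hd0
      rw [← Algebra.smul_def]
      have hzero := congrArg (Algebra.TensorProduct.lift (Ideal.Quotient.liftₐ η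
        ((Ideal.Quotient.mkₐ R (η.map (algebraMap R S))).comp (Algebra.ofId R S))
        (fun a ha => Ideal.Quotient.eq_zero_iff_mem.2 (Ideal.mem_map_of_mem _ ha)))
        (Ideal.Quotient.mkₐ R (η.map (algebraMap R S))) fun _ _ => .all _ _) hd1
      rw [map_zero, Algebra.TensorProduct.lift_tmul, map_one, one_mul] at hzero
      exact Ideal.Quotient.eq_zero_iff_mem.1 hzero
    refine ⟨g₁ * c * P₀.leadingCoeff, fun h => ?_, C (g₁ * c) * P₀, ?_, ?_⟩
    · rcases hη.isPrime.mem_or_mem h with h | h
      · rcases hη.isPrime.mem_or_mem h with h | h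
        exacts [hg₁ h, hc h]
      · exact hlead h
    · rw [leadingCoeff_mul' (by
        rw [leadingCoeff_C]
        intro h
        have := (hη.isPrime.mem_or_mem (show g₁ * c * P₀.leadingCoeff ∈ η by rw [h]; exact zero_mem _))
        rcases this with h | h
        · rcases hη.isPrime.mem_or_mem h with h | h
          exacts [hg₁ h, hc h]
        · exact hlead h), leadingCoeff_C]
    · rw [map_mul, aeval_C, map_mul, mul_assoc]
      exact hg₁map _ hmem
  choose c hc P hPc hP using hrel
  refine ⟨∏ r ∈ T, c r, fun h => ?_, fun r hr => ⟨P r, ?_, hP r⟩⟩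
  · obtain ⟨r, -, hr⟩ := (Ideal.IsPrime.prod_mem_iff.1 (hη.le h))
    exact hc r hr
  · rw [hPc]; exact Finset.dvd_prod_of_mem c hr

/-- An algebra of finite type generated modulo a nil ideal by integral elements is finite. -/
theorem finite_of_generated_mod_nil {L W : Type u} [CommRing L] [CommRing W] [Algebra L W]
    [Algebra.FiniteType L W] (N : Ideal W) (hN : N ≤ nilradical W) (T : Set W)
    (hT : ∀ x ∈ T, ∃ P : L[X], IsUnit P.leadingCoeff ∧ aeval x P ∈ N)
    (hgen : ∀ w, ∃ v ∈ Algebra.adjoin L T, w - v ∈ N) : Module.Finite L W := by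
  have hint : ∀ x ∈ T, IsIntegral L x := fun x hx => by
    obtain ⟨P, hP, hPN⟩ := hT x hx
    obtain ⟨k, hk⟩ := mem_nilradical.1 (hN hPN)
    obtain ⟨v, hv⟩ := hP
    refine ⟨(C (↑v⁻¹ : L) * P) ^ k, (monic_C_mul_of_mul_leadingCoeff_eq_one (by rw [← hv, Units.inv_mul])).pow k, ?_⟩
    rw [← aeval_def, map_pow, map_mul, mul_pow, hk, mul_zero]
  have : Algebra.IsIntegral L W := ⟨fun w => by
    obtain ⟨v, hv, hd⟩ := hgen w
    obtain ⟨k, hk⟩ := mem_nilradical.1 (hN hd)
    have h1 : IsIntegral L v :=
      (Algebra.adjoin_le (S := integralClosure L W) fun x hx => hint x hx) hv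
    have h2 : IsIntegral L (w - v) := ⟨X ^ k, monic_X_pow k, by rw [← aeval_def, map_pow, aeval_X, hk]⟩
    simpa using h1.add h2⟩
  exact Algebra.IsIntegral.finite

end Groth.Agent.GrpdThick
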