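import Groth.Agent.GrpdThick.NilContent
import Mathlib.Algebra.Module.Torsion.Basic
import Mathlib.RingTheory.Flat.Basic
import Mathlib.RingTheory.TensorProduct.Quotient
import Mathlib.RingTheory.Flat.Stability
import Mathlib.LinearAlgebra.TensorProduct.Prod

/-!
# Contents modulo an ideal of tensors killed by a power of an ideal
-/

set_option backward.isDefEq.respectTransparency false
set_option backward.isDefEq.respectTransparency.types false

universe u

open TensorProduct

namespace Groth.Agent.GrpdThick

/-- Content of an element of `(A ⧸ L) ⊗ B` killed by a finitely generated ideal `a`, which vanishes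
modulo `J`. -/
theorem exists_content_quot {A B : Type u} [CommRing A] [CommRing B] [Algebra A B] [Module.Flat A B]
    [Algebra.FinitePresentation A B] (a : Ideal A) (ha : a.FG) (g : A)
    [Module.Finite (Localization.Away (Ideal.Quotient.mk a g))
      (Localization.Away (Ideal.Quotient.mk a g) ⊗[A ⧸ a] ((A ⧸ a) ⊗[A] B))]
    (L J : Ideal A) (hLJ : L ≤ J) (u : (A ⧸ L) ⊗[A] B) (hu : ∀ c ∈ a, c • u = 0)
    (huJ : (Submodule.mapQ L J LinearMap.id hLJ).rTensor B u = 0) :
    ∃ (n : ℕ) (x : Fin n → A) (e : Fin n → B) (k : ℕ), (∀ i, x i ∈ J) ∧ (∀ i, ∀ c ∈ a, c * x i ∈ L) ∧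
      g ^ k • u = ∑ i, Submodule.Quotient.mk (x i) ⊗ₜ[A] e i ∧
      ∀ (Q : Type u) [AddCommGroup Q] [Module A Q] (f : (A ⧸ L) →ₗ[A] Q),
        ∑ i, f (Submodule.Quotient.mk (x i)) ⊗ₜ[A] e i = 0 →
          ∀ i, ∃ k : ℕ, g ^ k • f (Submodule.Quotient.mk (x i)) = 0 := by
  classical
  obtain ⟨G, hG⟩ := ha
  -- the torsion vanishing modulo `J`
  let μ : (A ⧸ L) →ₗ[A] (G → A ⧸ L) := LinearMap.pi fun c => (c.1 : A) • LinearMap.id
  let ν : (A ⧸ L) →ₗ[A] A ⧸ J := Submodule.mapQ L J LinearMap.id hLJ
  let M := LinearMap.ker (μ.prod ν)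
  have hM : ∀ y : M, ∀ c ∈ a, c • (y : A ⧸ L) = 0 := by
    intro y c hc
    rw [← hG] at hc
    induction hc using Submodule.span_induction with
    | mem c hc => exact congrFun (congrArg Prod.fst y.2) ⟨c, hc⟩
    | zero => exact zero_smul _ _
    | add c d _ _ hc hd => rw [add_smul, hc, hd, add_zero]
    | smul r c _ hc => rw [smul_eq_mul, mul_smul, hc, smul_zero]
  have hu0 : (μ.prod ν).rTensor B u = 0 := by
    apply (TensorProduct.prodLeft A A _ _ B).injective
    have e : ∀ v, TensorProduct.prodLeft A A _ _ B ((μ.prod ν).rTensor B v) = (μ.rTensor B v, ν.rTensor B v) := by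
      intro v
      induction v using TensorProduct.induction_on with
      | zero => simp only [map_zero]; rfl
      | tmul y b => simp
      | add v w hv hw => simp [hv, hw]
    have hμ : μ.rTensor B u = 0 := by
      apply (TensorProduct.comm A _ B).injective
      apply (TensorProduct.piRight A A B (fun _ : G => A ⧸ L)).injective
      have e' : ∀ v, TensorProduct.piRight A A B (fun _ : G => A ⧸ L) (TensorProduct.comm A _ B (μ.rTensor B v)) =
          fun c => TensorProduct.comm A _ B ((c.1 : A) • v) := by
        intro v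
        induction v using TensorProduct.induction_on with
        | zero => ext c; simp
        | tmul y b => ext c; simp [μ]
        | add v w hv hw => ext c; simp [map_add, hv, hw, smul_add]
      rw [e', map_zero, map_zero]
      ext c
      rw [hu _ (hG ▸ Ideal.subset_span c.2), map_zero]
      rfl
    rw [e, hμ, huJ, map_zero]
    rfl
  obtain ⟨z, rfl⟩ := (Module.Flat.rTensor_exact B (LinearMap.exact_subtype_ker_map (μ.prod ν)) _).1 hu0
  have hMt : Module.IsTorsionBySet A M (a : Set A) := fun y c => Subtype.ext (hM y c c.2)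
  let := hMt.module
  have : IsScalarTower A (A ⧸ a) M := hMt.isScalarTower
  let eM := AlgebraTensorModule.cancelBaseChange A (A ⧸ a) (A ⧸ a) M B
  obtain ⟨n, x₀, e₀, k, hk, hprop⟩ :=
    exists_content (Ideal.Quotient.mk a g) (S := (A ⧸ a) ⊗[A] B) (eM.symm z)
  have hone : ∀ v : (A ⧸ a) ⊗[A] B, ∃ b, v = 1 ⊗ₜ b := fun v => by
    induction v using TensorProduct.induction_on with
    | zero => exact ⟨0, (TensorProduct.tmul_zero _ _).symm⟩
    | tmul c b =>
      obtain ⟨c, rfl⟩ := Ideal.Quotient.mk_surjective c
      refine ⟨c • b, ?_⟩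
      rw [TensorProduct.tmul_smul, TensorProduct.smul_tmul', Algebra.smul_def, mul_one]
      rfl
    | add v w hv hw =>
      obtain ⟨b, rfl⟩ := hv
      obtain ⟨b', rfl⟩ := hw
      exact ⟨b + b', (TensorProduct.tmul_add _ _ _).symm⟩
  choose e he using fun i => hone (e₀ i)
  choose x hx using fun i => Submodule.Quotient.mk_surjective L (x₀ i : A ⧸ L)
  have hzM : g ^ k • z = ∑ i, x₀ i ⊗ₜ[A] e i := by
    have h1 := congrArg eM hk
    rw [map_smul, LinearEquiv.apply_symm_apply, map_sum] at h1
    rw [← algebraMap_smul (A ⧸ a) (g ^ k) z, map_pow, Ideal.Quotient.algebraMap_eq, h1]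
    refine Finset.sum_congr rfl fun i _ => ?_
    rw [he, AlgebraTensorModule.cancelBaseChange_tmul, one_smul]
  refine ⟨n, x, e, k, fun i => ?_, fun i c hc => ?_, ?_, fun Q _ _ f hf i => ?_⟩
  · have := congrArg Prod.snd (x₀ i).2
    simp only [LinearMap.prod_apply, ← hx] at this
    exact (Submodule.Quotient.mk_eq_zero J).1 this
  · have := hM (x₀ i) c hc
    rw [← hx, ← Submodule.Quotient.mk_smul] at this
    exact (Submodule.Quotient.mk_eq_zero L).1 this
  · rw [← map_smul, hzM, map_sum]
    exact Finset.sum_congr rfl fun i _ => by rw [LinearMap.rTensor_tmul, Submodule.subtype_apply, hx]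
  · let M' := Submodule.torsionBySet A Q (a : Set A)
    have hM't : Module.IsTorsionBySet A M' (a : Set A) := Submodule.torsionBySet_isTorsionBySet _
    let := hM't.module
    have : IsScalarTower A (A ⧸ a) M' := hM't.isScalarTower
    let f' : M →ₗ[A] M' := (f.domRestrict M).codRestrict _ fun y => by
      rw [Submodule.mem_torsionBySet_iff]
      intro c
      show (c : A) • f (y : A ⧸ L) = 0
      rw [← map_smul, hM y c c.2, map_zero]
    let f'' : M →ₗ[A ⧸ a] M' :=
      { f' with
        map_smul' := fun c y => by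
          obtain ⟨c, rfl⟩ := Ideal.Quotient.mk_surjective c
          show f' (c • y) = c • f' y
          exact map_smul f' c y }
    have h0 : ∑ j, f'' (x₀ j) ⊗ₜ[A ⧸ a] e₀ j = 0 := by
      apply (AlgebraTensorModule.cancelBaseChange A (A ⧸ a) (A ⧸ a) M' B).injective
      apply Module.Flat.rTensor_preserves_injective_linearMap (M := B) M'.subtype Subtype.val_injective
      rw [map_zero, map_zero, map_sum, map_sum, ← hf]
      refine Finset.sum_congr rfl fun j _ => ?_
      rw [he, AlgebraTensorModule.cancelBaseChange_tmul, one_smul, LinearMap.rTensor_tmul, hx]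
      rfl
    obtain ⟨k', hk'⟩ := hprop M' f'' h0 i
    refine ⟨k', ?_⟩
    have := congrArg Subtype.val hk'
    rw [hx]
    rw [← map_pow] at this
    exact this

end Groth.Agent.GrpdThick
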