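import Groth.Agent.GrpdThick.Quotient
import Groth.Agent.GrpdThick.NilQuotContent
import Groth.Agent.GrpdThick.NilFinite
import Mathlib.RingTheory.Nilpotent.Lemmas

/-!
# Finitely generated invariant ideals inside a nil invariant ideal

Over a finite type model of the quotient modulo a nil invariant ideal `J`, every finitely generated
ideal inside `J` lies in a finitely generated invariant one.
-/

set_option backward.isDefEq.respectTransparency false
set_option backward.isDefEq.respectTransparency.types false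

universe u

open CategoryTheory TensorProduct Polynomial

namespace Groth.Agent.GrpdThick

/-- A model of finite type of the groupoid modulo a nil invariant ideal. -/
structure Model (D : Rel.{u}) (J : Ideal D.A) where
  R₀ : Type u
  [instR₀ : CommRing R₀]
  [noeth : IsNoetherianRing R₀]
  R' : Type u
  [instR' : CommRing R']
  [instAlg : Algebra R₀ R']
  [etale : Algebra.Etale R₀ R']
  φ : R₀ →+* D.A ⧸ J
  h : R' →+* D.A ⧸ J
  comp : ∀ c, h (algebraMap R₀ R' c) = φ c
  inv : J ≤ (J.map D.t).comap D.s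
  eq : ∀ c, Ideal.quotientMap (J.map D.t) D.t Ideal.le_comap_map (φ c) = Ideal.quotientMap (J.map D.t) D.s inv (φ c)
  gen : Subring.closure (Set.range (Ideal.quotientMap (J.map D.t) D.t Ideal.le_comap_map) ∪
    Set.range ((Ideal.quotientMap (J.map D.t) D.s inv).comp h)) = ⊤
  nil : J ≤ nilradical D.A

attribute [instance] Model.instR₀ Model.noeth Model.instR' Model.instAlg Model.etale

/-- The arrows modulo the extension of `I`, as an algebra over the objects along the source. -/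
abbrev SQuotType (D : Rel.{u}) (I : Ideal D.A) : Type u := D.B ⧸ I.map D.t

/-- The arrows modulo the extension of `I`, as an algebra over the objects along the source. -/
def SQuot (D : Rel.{u}) (I : Ideal D.A) : Type u := SQuotType D I

instance (D : Rel.{u}) (I : Ideal D.A) : CommRing (SQuot D I) := inferInstanceAs (CommRing (SQuotType D I))

instance (D : Rel.{u}) (I : Ideal D.A) : Algebra D.A (SQuot D I) :=
  ((Ideal.Quotient.mk (I.map D.t)).comp D.s : D.A →+* SQuotType D I).toAlgebra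

/-- The elements moving `s l` into the extension of `L`. -/
def Rel.colon (D : Rel.{u}) (L : Ideal D.A) (l : D.A) : Ideal D.B :=
  Submodule.comap (LinearMap.mulRight D.B (D.s l)) (L.map D.t)

theorem Rel.mem_colon {D : Rel.{u}} {L : Ideal D.A} {l : D.A} {b : D.B} :
    b ∈ D.colon L l ↔ b * D.s l ∈ L.map D.t := Iff.rfl

/-- The class of an arrow. -/
def SQuot.mk (D : Rel.{u}) (I : Ideal D.A) : D.B →+* SQuot D I := Ideal.Quotient.mk (I.map D.t)

theorem SQuot.mk_eq_zero {D : Rel.{u}} {I : Ideal D.A} {b : D.B} : SQuot.mk D I b = 0 ↔ b ∈ I.map D.t :=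
  Ideal.Quotient.eq_zero_iff_mem

theorem SQuot.smul_mk {D : Rel.{u}} {I : Ideal D.A} (x : D.A) (b : D.B) :
    x • SQuot.mk D I b = SQuot.mk D I (D.s x * b) := rfl

namespace Model

variable {D : Rel.{u}} {J : Ideal D.A} (Mo : Model D J)
include Mo

theorem map_nil : J.map D.t ≤ nilradical D.B :=
  Ideal.map_le_iff_le_comap.2 fun j hj => mem_nilradical.2 ((mem_nilradical.1 (Mo.nil hj)).map D.t)

theorem nil_le_radical (I : Ideal D.B) : J.map D.t ≤ I.radical :=
  Mo.map_nil.trans (Ideal.radical_mono bot_le)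

/-- The locus over which `L` is invariant. -/
def good (L : Ideal D.A) : Ideal Mo.R₀ :=
  ⨅ l ∈ L, (((D.colon L l).radical).map (Ideal.Quotient.mk (J.map D.t))).comap
    ((Ideal.quotientMap (J.map D.t) D.t Ideal.le_comap_map).comp Mo.φ)

theorem mem_good {L : Ideal D.A} {g : Mo.R₀} {a : D.A} (ha : Ideal.Quotient.mk J a = Mo.φ g) :
    g ∈ Mo.good L ↔ ∀ l ∈ L, D.t a ∈ (D.colon L l).radical := by
  simp only [good, Submodule.mem_iInf, Ideal.mem_comap, RingHom.comp_apply, ← ha]
  refine forall₂_congr fun l _ => ?_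
  exact Ideal.mem_quotient_iff_mem (Mo.nil_le_radical _)

theorem s_sub_t_mem {g : Mo.R₀} {a : D.A} (ha : Ideal.Quotient.mk J a = Mo.φ g) :
    D.s a - D.t a ∈ J.map D.t := by
  rw [← Ideal.Quotient.eq]
  have := (Mo.eq g).symm
  rw [← ha] at this
  exact this

theorem radical_isRadical_good (L : Ideal D.A) : (Mo.good L).IsRadical := by
  intro g ⟨n, hn⟩
  obtain ⟨a, ha⟩ := Ideal.Quotient.mk_surjective (Mo.φ g)
  rw [Mo.mem_good ha]
  have hn' := (Mo.mem_good (a := a ^ n) (g := g ^ n) (by rw [map_pow, map_pow, ha])).1 hn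
  intro l hl
  rw [← Ideal.radical_idem]
  exact ⟨n, by rw [← map_pow]; exact hn' l hl⟩

/-- It is enough to test generators. -/
theorem mem_good_of_span {L : Ideal D.A} {T : Set D.A} (hT : Ideal.span T = L) {g : Mo.R₀} {a : D.A}
    (ha : Ideal.Quotient.mk J a = Mo.φ g) (h : ∀ l ∈ T, D.t a ∈ (D.colon L l).radical) : g ∈ Mo.good L := by
  rw [Mo.mem_good ha]
  intro l hl
  rw [← hT] at hl
  induction hl using Submodule.span_induction with
  | mem l hl => exact h l hl
  | zero => exact ⟨0, by rw [Rel.mem_colon, map_zero, mul_zero]; exact zero_mem _⟩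
  | add l l' _ _ hl hl' =>
    obtain ⟨m, hm⟩ := hl
    obtain ⟨m', hm'⟩ := hl'
    refine ⟨m + m', ?_⟩
    rw [Rel.mem_colon] at hm hm' ⊢
    rw [map_add, mul_add, pow_add]
    refine add_mem ?_ ?_
    · rw [mul_comm (_ ^ m), mul_assoc]; exact Ideal.mul_mem_left _ _ hm
    · rw [mul_assoc]; exact Ideal.mul_mem_left _ _ hm'
  | smul c l _ hl =>
    obtain ⟨m, hm⟩ := hl
    refine ⟨m, ?_⟩
    rw [Rel.mem_colon] at hm ⊢
    rw [smul_eq_mul, map_mul, mul_left_comm]
    exact Ideal.mul_mem_left _ _ hm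

theorem le_comap_of_good_eq_top {L : Ideal D.A} (h : Mo.good L = ⊤) : L ≤ (L.map D.t).comap D.s := by
  intro l hl
  have h1 := (Mo.mem_good (a := 1) (g := 1) (by rw [map_one, map_one])).1 (by rw [h]; trivial) l hl
  obtain ⟨n, hn⟩ := h1
  rw [Rel.mem_colon, map_one, one_pow, one_mul] at hn
  exact hn

/-- An algebra generated by the arrows, over a ring where the equations are nilpotent and `g` is
invertible, is finite. -/
theorem finite_aux {L W : Type u} [CommRing L] [CommRing W] [Algebra L W] [Algebra.FiniteType L W]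
    (β : D.B →+* W) (κ : D.A →+* L) (hβt : ∀ x, β (D.t x) = algebraMap L W (κ x))
    (hspan : ∀ w, w ∈ Algebra.adjoin L (Set.range β))
    (F : Finset Mo.R₀) (lift : Mo.R₀ → D.A) (hlift : ∀ c, Ideal.Quotient.mk J (lift c) = Mo.φ c)
    (hF : ∀ f ∈ F, IsNilpotent (κ (lift f))) (T : Finset Mo.R')
    (hT : Algebra.adjoin Mo.R₀ (T : Set Mo.R') = ⊤) (g : Mo.R₀) (hg : IsUnit (κ (lift g)))
    (hrel : ∀ r ∈ T, ∃ P : Mo.R₀[X], P.leadingCoeff ∣ g ∧
      aeval r P ∈ (Ideal.span (F : Set Mo.R₀)).map (algebraMap Mo.R₀ Mo.R')) :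
    Module.Finite L W := by
  classical
  let qW := Ideal.Quotient.mk (nilradical W)
  let θ : D.B ⧸ J.map D.t →+* W ⧸ nilradical W := Ideal.Quotient.lift _ (qW.comp β) fun b hb =>
    Ideal.Quotient.eq_zero_iff_mem.2 (mem_nilradical.2 ((mem_nilradical.1 (Mo.map_nil hb)).map β))
  let tb := Ideal.quotientMap (J.map D.t) D.t Ideal.le_comap_map
  let sb := Ideal.quotientMap (J.map D.t) D.s Mo.inv
  -- the lifts of the generators
  choose y hy using fun r : Mo.R' => Ideal.Quotient.mk_surjective (sb (Mo.h r))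
  let Y : Set W := (fun r => β (y r)) '' (T : Set Mo.R')
  refine finite_of_generated_mod_nil (nilradical W) le_rfl Y ?_ ?_
  · rintro _ ⟨r, hr, rfl⟩
    obtain ⟨P, hPg, hP⟩ := hrel r hr
    obtain ⟨Pa, hPa, hdeg⟩ := exists_natDegree_eq_of_mem_lifts
      (mem_lifts_of_surjective (f := Ideal.Quotient.mk J) Ideal.Quotient.mk_surjective (P.map Mo.φ))
    refine ⟨Pa.map κ, ?_, ?_⟩
    · obtain ⟨d, hd⟩ := hPg
      have hco : Ideal.Quotient.mk J (Pa.coeff P.natDegree) = Mo.φ P.leadingCoeff := by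
        rw [← coeff_map, hPa, coeff_map]
        rfl
      have hu : IsUnit (κ (Pa.coeff P.natDegree)) := by
        refine isUnit_of_mul_isUnit_left (y := κ (lift d)) ?_
        rw [← map_mul]
        obtain ⟨j, hj, e⟩ : ∃ j ∈ J, Pa.coeff P.natDegree * lift d = lift g + j := by
          refine ⟨_, Ideal.Quotient.eq_zero_iff_mem.1 ?_, (add_sub_cancel _ _).symm⟩
          rw [map_sub, map_mul, hco, hlift, hlift, ← map_mul, ← hd, sub_self]
        rw [e, map_add]
        exact IsNilpotent.isUnit_add_left_of_commute ((mem_nilradical.1 (Mo.nil hj)).map κ) hg (.all _ _)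
      rcases subsingleton_or_nontrivial L with hL | hL
      · exact isUnit_of_subsingleton _
      · have hle : (Pa.map κ).natDegree ≤ P.natDegree :=
          natDegree_map_le.trans (hdeg.le.trans natDegree_map_le)
        have hne : (Pa.map κ).coeff P.natDegree ≠ 0 := by rw [coeff_map]; exact hu.ne_zero
        rw [leadingCoeff, natDegree_eq_of_le_of_coeff_ne_zero hle hne, coeff_map]
        exact hu
    · rw [← Ideal.Quotient.eq_zero_iff_mem]
      have h1 : qW (aeval (β (y r)) (Pa.map κ)) = θ (sb (Mo.h (aeval r P))) := by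
        rw [aeval_def, eval₂_map, hom_eval₂, aeval_def, hom_eval₂, hom_eval₂, hom_eval₂]
        rw [show θ (sb (Mo.h r)) = qW (β (y r)) by rw [← hy]; rfl]
        have hmap : (θ.comp (tb.comp Mo.φ)) = θ.comp ((sb.comp Mo.h).comp (algebraMap Mo.R₀ Mo.R')) := by
          ext c
          show θ (tb (Mo.φ c)) = θ (sb (Mo.h (algebraMap _ _ c)))
          rw [Mo.comp, show tb (Mo.φ c) = sb (Mo.φ c) from Mo.eq c]
        have hmap' : qW.comp ((algebraMap L W).comp κ) = (θ.comp tb).comp (Ideal.Quotient.mk J) := by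
          ext x
          show qW (algebraMap L W (κ x)) = θ (Ideal.Quotient.mk _ (D.t x))
          rw [← hβt]; rfl
        rw [hmap', ← eval₂_map, hPa, eval₂_map]
        congr 1
      rw [show qW = Ideal.Quotient.mk (nilradical W) from rfl] at h1
      rw [h1]
      refine (show (Ideal.span (F : Set Mo.R₀)).map (algebraMap Mo.R₀ Mo.R') ≤
        RingHom.ker (θ.comp (sb.comp Mo.h)) from ?_) hP
      rw [Ideal.map_span, Ideal.span_le]
      rintro _ ⟨f, hf, rfl⟩
      show θ (sb (Mo.h (algebraMap _ _ f))) = 0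
      rw [Mo.comp, show sb (Mo.φ f) = tb (Mo.φ f) from (Mo.eq f).symm, ← hlift f]
      show qW (β (D.t (lift f))) = 0
      refine Ideal.Quotient.eq_zero_iff_mem.2 (mem_nilradical.2 ?_)
      rw [hβt]
      exact (hF f hf).map _
  · let Sb : Subring D.B :=
      (((Algebra.adjoin L Y).map (Ideal.Quotient.mkₐ L (nilradical W))).toSubring).comap (qW.comp β)
    have hSb : ∀ b, b ∈ Sb := by
      have htop : (⊤ : Subring (D.B ⧸ J.map D.t)) ≤
          (((Algebra.adjoin L Y).map (Ideal.Quotient.mkₐ L (nilradical W))).toSubring).comap θ := by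
        rw [← Mo.gen, Subring.closure_le]
        rintro _ (⟨x, rfl⟩ | ⟨r, rfl⟩)
        · obtain ⟨x, rfl⟩ := Ideal.Quotient.mk_surjective x
          exact ⟨β (D.t x), by rw [hβt]; exact Subalgebra.algebraMap_mem _ _, rfl⟩
        · let S' : Subalgebra Mo.R₀ Mo.R' :=
            { (((Algebra.adjoin L Y).map (Ideal.Quotient.mkₐ L (nilradical W))).toSubring.comap
                (θ.comp (sb.comp Mo.h))) with
              algebraMap_mem' := fun c => by
                show θ (sb (Mo.h (algebraMap _ _ c))) ∈ (Algebra.adjoin L Y).map (Ideal.Quotient.mkₐ L (nilradical W))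
                rw [Mo.comp, show sb (Mo.φ c) = tb (Mo.φ c) from (Mo.eq c).symm, ← hlift c]
                exact ⟨β (D.t (lift c)), by rw [hβt]; exact Subalgebra.algebraMap_mem _ _, rfl⟩ }
          have : r ∈ S' := by
            refine Algebra.adjoin_le ?_ (hT.ge (Algebra.mem_top : r ∈ (⊤ : Subalgebra Mo.R₀ Mo.R')))
            intro r hr
            show θ (sb (Mo.h r)) ∈ (Algebra.adjoin L Y).map (Ideal.Quotient.mkₐ L (nilradical W))
            rw [← hy]
            exact ⟨β (y r), Algebra.subset_adjoin ⟨r, hr, rfl⟩, rfl⟩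
          exact this
      exact fun b => htop (Subring.mem_top (Ideal.Quotient.mk _ b))
    intro w
    suffices qW w ∈ ((Algebra.adjoin L Y).map (Ideal.Quotient.mkₐ L (nilradical W))) by
      obtain ⟨v, hv, hvw⟩ := this
      exact ⟨v, hv, Ideal.Quotient.eq.1 hvw.symm⟩
    induction hspan w using Algebra.adjoin_induction with
    | mem x hx => obtain ⟨b, rfl⟩ := hx; exact hSb b
    | algebraMap l => exact ⟨_, Subalgebra.algebraMap_mem _ l, rfl⟩
    | add x y _ _ hx hy => rw [map_add]; exact add_mem hx hy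
    | mul x y _ _ hx hy => rw [map_mul]; exact mul_mem hx hy

/-- The model is finite near a generic point, modulo any ideal containing powers of lifts of the
equations. -/
theorem finite_of_relation [Algebra D.A D.B] (halg : algebraMap D.A D.B = D.t) [Algebra.FiniteType D.A D.B]
    (a : Ideal D.A) (F : Finset Mo.R₀) (lift : Mo.R₀ → D.A)
    (hlift : ∀ c, Ideal.Quotient.mk J (lift c) = Mo.φ c) (hF : ∀ f ∈ F, lift f ∈ a.radical)
    (T : Finset Mo.R') (hT : Algebra.adjoin Mo.R₀ (T : Set Mo.R') = ⊤) (g : Mo.R₀)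
    (hrel : ∀ r ∈ T, ∃ P : Mo.R₀[X], P.leadingCoeff ∣ g ∧
      aeval r P ∈ (Ideal.span (F : Set Mo.R₀)).map (algebraMap Mo.R₀ Mo.R')) :
    Module.Finite (Localization.Away (Ideal.Quotient.mk a (lift g)))
      (Localization.Away (Ideal.Quotient.mk a (lift g)) ⊗[D.A ⧸ a] ((D.A ⧸ a) ⊗[D.A] D.B)) := by
  refine Mo.finite_aux (L := Localization.Away (Ideal.Quotient.mk a (lift g)))
    (W := Localization.Away (Ideal.Quotient.mk a (lift g)) ⊗[D.A ⧸ a] ((D.A ⧸ a) ⊗[D.A] D.B))
    ((Algebra.TensorProduct.includeRight (R := D.A ⧸ a)).toRingHom.comp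
      (Algebra.TensorProduct.includeRight (R := D.A) (A := D.A ⧸ a) (B := D.B)).toRingHom)
    ((algebraMap (D.A ⧸ a) (Localization.Away (Ideal.Quotient.mk a (lift g)))).comp (Ideal.Quotient.mk a))
    (fun x => ?_) (fun w => ?_) F lift hlift (fun f hf => ?_) T hT g
    (IsLocalization.Away.algebraMap_isUnit (Ideal.Quotient.mk a (lift g))) hrel
  · show (1 : Localization.Away (Ideal.Quotient.mk a (lift g))) ⊗ₜ[D.A ⧸ a] ((1 : D.A ⧸ a) ⊗ₜ[D.A] D.t x) = _
    rw [← halg, Algebra.algebraMap_eq_smul_one x, TensorProduct.tmul_smul, ← algebraMap_smul (D.A ⧸ a) x,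
      TensorProduct.tmul_smul, TensorProduct.smul_tmul', Algebra.smul_def, mul_one]
    rfl
  · induction w using TensorProduct.induction_on with
    | zero => exact zero_mem _
    | tmul l v =>
      induction v using TensorProduct.induction_on with
      | zero => rw [TensorProduct.tmul_zero]; exact zero_mem _
      | tmul r b =>
        have : l ⊗ₜ[D.A ⧸ a] (r ⊗ₜ[D.A] b) =
            (r • l) • ((1 : Localization.Away (Ideal.Quotient.mk a (lift g))) ⊗ₜ[D.A ⧸ a] ((1 : D.A ⧸ a) ⊗ₜ[D.A] b)) := by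
          rw [TensorProduct.smul_tmul', smul_eq_mul, mul_one, TensorProduct.smul_tmul, TensorProduct.smul_tmul',
            smul_eq_mul, mul_one]
        rw [this]
        refine Subalgebra.smul_mem _ (Algebra.subset_adjoin ?_) _
        exact ⟨b, rfl⟩
      | add v v' hv hv' => rw [TensorProduct.tmul_add]; exact add_mem hv hv'
    | add v v' hv hv' => exact add_mem hv hv'
  · obtain ⟨k, hk⟩ := hF f hf
    refine ⟨k, ?_⟩
    rw [← map_pow, RingHom.comp_apply, Ideal.Quotient.eq_zero_iff_mem.2 hk, map_zero]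

omit Mo in
/-- The relation on contents obtained from composable arrows. -/
theorem sum_eq_zero [Algebra D.A D.B] (halg : algebraMap D.A D.B = D.t) (L' : Ideal D.A) {ι : Type*} [Fintype ι]
    (y : ι → D.B) (e : ι → D.B) (h : ∑ i, D.p₁ (y i) * D.p₂ (e i) ∈ (L'.map D.t).map D.p₁) :
    ∑ i, SQuot.mk D L' (y i) ⊗ₜ[D.A] e i = 0 := by
  let u : CommRingCat.of D.B ⟶ CommRingCat.of (SQuot D L' ⊗[D.A] D.B) :=
    CommRingCat.ofHom (Algebra.TensorProduct.includeRight : D.B →ₐ[D.A] SQuot D L' ⊗[D.A] D.B).toRingHom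
  let qQ : D.B →+* SQuot D L' := SQuot.mk D L'
  let v : CommRingCat.of D.B ⟶ CommRingCat.of (SQuot D L' ⊗[D.A] D.B) :=
    CommRingCat.ofHom ((Algebra.TensorProduct.includeLeftRingHom).comp qQ)
  have w : CommRingCat.ofHom D.t ≫ u = CommRingCat.ofHom D.s ≫ v := by
    ext x
    show (1 : SQuot D L') ⊗ₜ[D.A] D.t x = qQ (D.s x) ⊗ₜ[D.A] (1 : D.B)
    rw [← halg, show qQ (D.s x) = algebraMap D.A (SQuot D L') x from rfl, Algebra.algebraMap_eq_smul_one x,
      Algebra.algebraMap_eq_smul_one (A := SQuot D L') x, TensorProduct.tmul_smul, TensorProduct.smul_tmul']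
  let ρ := (D.sq₁.desc u v w).hom
  have hρ₁ : ∀ b, ρ (D.p₁ b) = qQ b ⊗ₜ[D.A] (1 : D.B) := fun b =>
    congrArg (fun φ => φ.hom b) (D.sq₁.inr_desc u v w)
  have hρ₂ : ∀ b, ρ (D.p₂ b) = (1 : SQuot D L') ⊗ₜ[D.A] b := fun b =>
    congrArg (fun φ => φ.hom b) (D.sq₁.inl_desc u v w)
  have hker : (L'.map D.t).map D.p₁ ≤ RingHom.ker ρ := Ideal.map_le_iff_le_comap.2 fun b hb => by
    rw [Ideal.mem_comap, RingHom.mem_ker, hρ₁, show qQ b = 0 from SQuot.mk_eq_zero.2 hb,
      TensorProduct.zero_tmul]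
  have h0 := hker h
  rw [RingHom.mem_ker, map_sum] at h0
  rw [← h0]
  refine Finset.sum_congr rfl fun i _ => ?_
  rw [map_mul, hρ₁, hρ₂, Algebra.TensorProduct.tmul_mul_tmul, mul_one, one_mul]

/-- One step of the closure. -/
theorem exists_step (hfp : D.t.FinitePresentation) (L : Ideal D.A) (hL : L.FG) (hLJ : L ≤ J)
    (htop : Mo.good L ≠ ⊤) : ∃ L' : Ideal D.A, L'.FG ∧ L ≤ L' ∧ L' ≤ J ∧ Mo.good L < Mo.good L' := by
  classical
  let alg : Algebra D.A D.B := D.t.toAlgebra
  have halg : algebraMap D.A D.B = D.t := rfl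
  have : Module.Flat D.A D.B := D.flat_t
  have : Algebra.FinitePresentation D.A D.B := hfp
  obtain ⟨F, hF⟩ := IsNoetherian.noetherian (Mo.good L)
  obtain ⟨T, hT⟩ := (inferInstance : Algebra.FiniteType Mo.R₀ Mo.R').out
  obtain ⟨g, hg, hrel⟩ := exists_generic_relation (Mo.good L) (Mo.radical_isRadical_good L) htop T
  obtain ⟨G, hG⟩ := hL
  choose a ha using fun c : Mo.R₀ => Ideal.Quotient.mk_surjective (Mo.φ c)
  let 𝔞 := Ideal.span (a '' (F : Set Mo.R₀))
  have h𝔞 : 𝔞.FG := ⟨F.image a, by rw [Finset.coe_image]⟩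
  have hrad : ∀ l ∈ L, 𝔞.map D.t ≤ (D.colon L l).radical := fun l hl => by
    rw [Ideal.map_le_iff_le_comap, Ideal.span_le]
    rintro _ ⟨f, hf, rfl⟩
    exact (Mo.mem_good (ha f)).1 (hF ▸ Ideal.subset_span hf) l hl
  have hpow : ∀ l ∈ L, ∃ n, (𝔞.map D.t) ^ n ≤ D.colon L l := fun l hl =>
    Ideal.exists_pow_le_of_le_radical_of_fg (hrad l hl) (h𝔞.map _)
  choose N hN using hpow
  let m := G.attach.sup fun l => N l.1 (hG ▸ Ideal.subset_span l.2)
  let am := 𝔞 ^ m
  have ham : ∀ l ∈ G, ∀ c ∈ am, D.t c * D.s l ∈ L.map D.t := fun l hl c hc => by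
    refine Rel.mem_colon.1 (hN l (hG ▸ Ideal.subset_span hl) (Ideal.pow_le_pow_right
      (Finset.le_sup (f := fun l : G => N l.1 (hG ▸ Ideal.subset_span l.2)) (Finset.mem_attach _ ⟨l, hl⟩)) ?_))
    rw [← Ideal.map_pow]
    exact Ideal.mem_map_of_mem _ hc
  have := Mo.finite_of_relation halg am F a ha
    (fun f hf => Ideal.mem_radical_iff.2 ⟨m, Ideal.pow_mem_pow (show a f ∈ 𝔞 from Ideal.subset_span ⟨f, hf, rfl⟩) m⟩) T hT g
    (fun r hr => by
      obtain ⟨P, hP₁, hP₂⟩ := hrel r hr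
      exact ⟨P, hP₁, by rwa [Ideal.span, hF]⟩)
  -- contents of the generators
  have hzero : ∀ (I : Ideal D.A) (b : D.B), b ∈ I.map D.t → (Submodule.Quotient.mk 1 : D.A ⧸ I) ⊗ₜ[D.A] b = 0 := by
    intro I b hb
    induction hb using Submodule.span_induction with
    | mem b hb =>
      obtain ⟨i, hi, rfl⟩ := hb
      rw [show D.t i = i • (1 : D.B) from (mul_one (D.t i)).symm, TensorProduct.tmul_smul,
        TensorProduct.smul_tmul', ← Submodule.Quotient.mk_smul, smul_eq_mul, mul_one,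
        (Submodule.Quotient.mk_eq_zero I).2 hi, TensorProduct.zero_tmul]
    | zero => exact TensorProduct.tmul_zero _ _
    | add x y _ _ hx hy => rw [TensorProduct.tmul_add, hx, hy, add_zero]
    | smul c x _ hx =>
      rw [smul_eq_mul]
      have := congrArg (LinearMap.lTensor (D.A ⧸ I) (LinearMap.mulLeft D.A c)) hx
      rwa [map_zero, LinearMap.lTensor_tmul, LinearMap.mulLeft_apply] at this
  have hcontent : ∀ l ∈ G, ∃ (n : ℕ) (x : Fin n → D.A) (e : Fin n → D.B) (k : ℕ), (∀ i, x i ∈ J) ∧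
      (∀ i, ∀ c ∈ am, c * x i ∈ L) ∧ D.t (a g ^ k) * D.s l - ∑ i, D.t (x i) * e i ∈ L.map D.t ∧
      ∀ (Q : Type u) [AddCommGroup Q] [Module D.A Q] (f : (D.A ⧸ L) →ₗ[D.A] Q),
        ∑ i, f (Submodule.Quotient.mk (x i)) ⊗ₜ[D.A] e i = 0 →
          ∀ i, ∃ k : ℕ, a g ^ k • f (Submodule.Quotient.mk (x i)) = 0 := by
    intro l hl
    obtain ⟨n, x, e, k, hx₁, hx₂, heq, hprop⟩ := exists_content_quot am (Submodule.FG.pow h𝔞 m) (a g) L J hLJ
      ((Submodule.Quotient.mk 1 : D.A ⧸ L) ⊗ₜ[D.A] D.s l)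
      (fun c hc => by
        rw [← TensorProduct.tmul_smul]
        exact hzero L _ (ham l hl c hc))
      (by
        rw [LinearMap.rTensor_tmul, Submodule.mapQ_apply]
        exact hzero J _ (Mo.inv (hLJ (hG ▸ Ideal.subset_span hl))))
    let ε : (D.A ⧸ L) ⊗[D.A] D.B →ₐ[D.A] D.B ⧸ L.map D.t :=
      Algebra.TensorProduct.lift (Ideal.Quotient.liftₐ L (Algebra.ofId D.A _) fun i hi =>
          Ideal.Quotient.eq_zero_iff_mem.2 (Ideal.mem_map_of_mem D.t hi))
        (Ideal.Quotient.mkₐ D.A _) fun _ _ => .all _ _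
    have hε : ∀ c b, ε ((Submodule.Quotient.mk c : D.A ⧸ L) ⊗ₜ b) = Ideal.Quotient.mk _ (D.t c * b) := fun c b => rfl
    refine ⟨n, x, e, k, hx₁, hx₂, ?_, hprop⟩
    rw [← Ideal.Quotient.eq_zero_iff_mem, map_sub, sub_eq_zero, map_sum]
    have := congrArg ε heq
    rw [map_smul, map_sum, hε, map_one, one_mul] at this
    simp only [hε] at this
    exact (map_mul _ _ _).trans this
  choose n x e k hxJ hxL heq hprop using hcontent
  let X : Set D.A := (G : Set D.A) ∪ ⋃ l : G, Set.range (x l.1 l.2)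
  have hXfin : X.Finite := G.finite_toSet.union (Set.finite_iUnion fun l => Set.finite_range _)
  let L' := Ideal.span X
  have hLL' : L ≤ L' := hG ▸ Ideal.span_mono Set.subset_union_left
  have hxL' : ∀ l hl i, x l hl i ∈ L' := fun l hl i =>
    Ideal.subset_span (Or.inr (Set.mem_iUnion.2 ⟨⟨l, hl⟩, i, rfl⟩))
  let K := G.attach.sup fun l => k l.1 l.2
  let gK := a g ^ K
  have hgen : ∀ l ∈ G, D.t gK * D.s l ∈ L'.map D.t := fun l hl => by
    have h0 : D.t (a g ^ k l hl) * D.s l ∈ L'.map D.t := by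
      rw [← sub_add_cancel (D.t (a g ^ k l hl) * D.s l) (∑ i, D.t (x l hl i) * e l hl i)]
      exact add_mem (Ideal.map_mono hLL' (heq l hl))
        (sum_mem fun i _ => Ideal.mul_mem_right _ _ (Ideal.mem_map_of_mem _ (hxL' l hl i)))
    have hle : k l hl ≤ K := Finset.le_sup (f := fun l : G => k l.1 l.2) (Finset.mem_attach _ ⟨l, hl⟩)
    simp only [gK]
    rw [← Nat.sub_add_cancel hle, pow_add, map_mul, mul_assoc]
    exact Ideal.mul_mem_left _ _ h0
  have hall : ∀ l ∈ L, D.t gK * D.s l ∈ L'.map D.t := fun l hl => by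
    rw [← hG] at hl
    induction hl using Submodule.span_induction with
    | mem l hl => exact hgen l hl
    | zero => rw [map_zero, mul_zero]; exact zero_mem _
    | add l l' _ _ hl hl' => rw [map_add, mul_add]; exact add_mem hl hl'
    | smul c l _ hl => rw [smul_eq_mul, map_mul, mul_left_comm]; exact Ideal.mul_mem_left _ _ hl
  -- `g` is good for the enlarged ideal
  have hgood : g ∈ Mo.good L' := by
    refine Mo.mem_good_of_span (T := X) rfl (ha g) ?_
    rintro z (hz | hz)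
    · refine Ideal.mem_radical_iff.2 ⟨K, ?_⟩
      rw [Rel.mem_colon, ← map_pow]
      exact hgen z hz
    · obtain ⟨⟨l, hl⟩, i, rfl⟩ := Set.mem_iUnion.1 hz
      have hqf : ∀ c : D.A, (SQuot.mk D L' (D.t gK * D.s c)) =
          c • (SQuot.mk D L' (D.t gK)) := fun c => by
        rw [SQuot.smul_mk, mul_comm]
      let f₀ : D.A →ₗ[D.A] SQuot D L' :=
        LinearMap.toSpanSingleton D.A (SQuot D L') (SQuot.mk D L' (D.t gK))
      let f : (D.A ⧸ L) →ₗ[D.A] SQuot D L' := Submodule.liftQ L f₀ fun c hc => by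
        rw [LinearMap.mem_ker, LinearMap.toSpanSingleton_apply, ← hqf]
        exact SQuot.mk_eq_zero.2 (hall c hc)
      have hf : ∀ c, f (Submodule.Quotient.mk c) = (SQuot.mk D L' (D.t gK * D.s c)) :=
        fun c => (LinearMap.toSpanSingleton_apply ..).trans (hqf c).symm
      have hsum : ∑ j, f (Submodule.Quotient.mk (x l hl j)) ⊗ₜ[D.A] e l hl j = 0 := by
        simp only [hf]
        refine sum_eq_zero halg L' _ _ ?_
        have h1 : D.p₁ (D.t gK) * (D.p₂ (D.t (a g ^ k l hl)) * D.p₂ (D.s l)) -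
            ∑ j, D.p₁ (D.t gK * D.s (x l hl j)) * D.p₂ (e l hl j) ∈ (L'.map D.t).map D.p₁ := by
          have e1 : ∀ c, D.p₂ (D.t c) = D.p₁ (D.s c) := fun c => congrArg (fun φ => φ.hom c) D.sq₁.w
          have key : ∀ b ∈ L.map D.t, D.p₁ (D.t gK) * D.p₂ b ∈ (L'.map D.t).map D.p₁ := fun b hb => by
            induction hb using Submodule.span_induction with
            | mem b hb =>
              obtain ⟨c, hc, rfl⟩ := hb
              rw [e1, ← map_mul]
              exact Ideal.mem_map_of_mem _ (hall c hc)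
            | zero => rw [map_zero, mul_zero]; exact zero_mem _
            | add b b' _ _ hb hb' => rw [map_add, mul_add]; exact add_mem hb hb'
            | smul c b _ hb => rw [smul_eq_mul, map_mul, mul_left_comm]; exact Ideal.mul_mem_left _ _ hb
          have := key _ (heq l hl)
          simp only [map_sub, map_mul, map_sum, e1, mul_sub, Finset.mul_sum, ← mul_assoc] at this ⊢
          exact this
        have h2 : D.p₁ (D.t gK) * (D.p₂ (D.t (a g ^ k l hl)) * D.p₂ (D.s l)) ∈ (L'.map D.t).map D.p₁ := by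
          rw [mul_left_comm]
          refine Ideal.mul_mem_left _ _ ?_
          rw [show D.p₁ (D.t gK) = D.m (D.t gK) from (RingHom.congr_fun D.m_t gK).symm,
            show D.p₂ (D.s l) = D.m (D.s l) from (RingHom.congr_fun D.m_s l).symm, ← map_mul]
          exact D.m_mem L' (hgen l hl)
        simpa using sub_mem h2 h1
      obtain ⟨k', hk'⟩ := hprop l hl _ f hsum i
      rw [hf, SQuot.smul_mk] at hk'
      replace hk' := SQuot.mk_eq_zero.1 hk'
      refine ((Ideal.radical_isRadical _) (?_ : _ ∈ (D.colon L' (x l hl i)).radical.radical)) 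
      refine Ideal.mem_radical_iff.2 ⟨k' + K, ?_⟩
      have hmem : D.s (a g) ^ k' * D.t (a g) ^ K ∈ (D.colon L' (x l hl i)).radical := by
        refine Ideal.le_radical ?_
        rw [Rel.mem_colon, ← map_pow, ← map_pow, mul_assoc]
        exact hk'
      have hdiff : D.t (a g) ^ k' - D.s (a g) ^ k' ∈ (D.colon L' (x l hl i)).radical := by
        obtain ⟨r, hr⟩ := sub_dvd_pow_sub_pow (D.t (a g)) (D.s (a g)) k'
        rw [hr]
        refine Ideal.mul_mem_right _ _ (Mo.nil_le_radical _ ?_)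
        rw [← neg_sub]
        exact neg_mem (Mo.s_sub_t_mem (ha g))
      rw [pow_add, show D.t (a g) ^ k' * D.t (a g) ^ K =
        (D.t (a g) ^ k' - D.s (a g) ^ k') * D.t (a g) ^ K + D.s (a g) ^ k' * D.t (a g) ^ K by ring]
      exact add_mem (Ideal.mul_mem_right _ _ hdiff) hmem
  refine ⟨L', ⟨hXfin.toFinset, by rw [Set.Finite.coe_toFinset]⟩, hLL', ?_, ?_⟩
  · rw [Ideal.span_le]
    rintro z (hz | hz)
    · exact hLJ (hG ▸ Ideal.subset_span hz)
    · obtain ⟨⟨l, hl⟩, i, rfl⟩ := Set.mem_iUnion.1 hz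
      exact hxJ l hl i
  · refine lt_of_le_of_ne ?_ fun h => hg (h ▸ hgood)
    rw [← hF]
    refine Submodule.span_le.2 fun f hf => Mo.mem_good_of_span (T := X) rfl (ha f) ?_
    rintro z (hz | hz)
    · obtain ⟨r, hr⟩ := Ideal.mem_radical_iff.1
        (hrad z (hG ▸ Ideal.subset_span hz) (Ideal.mem_map_of_mem _ (Ideal.subset_span ⟨f, hf, rfl⟩)))
      exact Ideal.mem_radical_iff.2 ⟨r, Ideal.map_mono hLL' hr⟩
    · obtain ⟨⟨l, hl⟩, i, rfl⟩ := Set.mem_iUnion.1 hz
      have hcx : a f ^ m * x l hl i ∈ L :=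
        hxL l hl i _ (Ideal.pow_mem_pow (show a f ∈ 𝔞 from Ideal.subset_span ⟨f, hf, rfl⟩) m)
      obtain ⟨r, hr⟩ := Ideal.mem_radical_iff.1 ((Mo.mem_good (ha f)).1 (hF ▸ Ideal.subset_span hf) _ hcx)
      rw [Rel.mem_colon, map_mul, map_pow, ← mul_assoc] at hr
      have hmem : D.t (a f) ^ r * D.s (a f) ^ m ∈ (D.colon L' (x l hl i)).radical :=
        Ideal.le_radical (Rel.mem_colon.2 (Ideal.map_mono hLL' hr))
      have hdiff : D.t (a f) ^ m - D.s (a f) ^ m ∈ (D.colon L' (x l hl i)).radical := by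
        obtain ⟨q, hq⟩ := sub_dvd_pow_sub_pow (D.t (a f)) (D.s (a f)) m
        rw [hq]
        refine Ideal.mul_mem_right _ _ (Mo.nil_le_radical _ ?_)
        rw [← neg_sub]
        exact neg_mem (Mo.s_sub_t_mem (ha f))
      refine (Ideal.radical_isRadical _) (Ideal.mem_radical_iff.2 ⟨r + m, ?_⟩)
      rw [pow_add, show D.t (a f) ^ r * D.t (a f) ^ m =
        D.t (a f) ^ r * (D.t (a f) ^ m - D.s (a f) ^ m) + D.t (a f) ^ r * D.s (a f) ^ m by ring]
      exact add_mem (Ideal.mul_mem_left _ _ hdiff) hmem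

/-- Every finitely generated ideal inside `J` lies in a finitely generated invariant one. -/
theorem exists_invariant (hfp : D.t.FinitePresentation) (I : Ideal D.A) (hI : I.FG) (hIJ : I ≤ J) :
    ∃ L : Ideal D.A, L.FG ∧ I ≤ L ∧ L ≤ J ∧ L ≤ (L.map D.t).comap D.s := by
  have main : ∀ 𝔟 : Ideal Mo.R₀, ∀ L : Ideal D.A, L.FG → L ≤ J → Mo.good L = 𝔟 →
      ∃ L' : Ideal D.A, L'.FG ∧ L ≤ L' ∧ L' ≤ J ∧ L' ≤ (L'.map D.t).comap D.s := by
    intro 𝔟
    induction 𝔟 using WellFoundedGT.induction with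
    | _ 𝔟 ih =>
      intro L hL hLJ hb
      rcases eq_or_ne (Mo.good L) ⊤ with htop | htop
      · exact ⟨L, hL, le_rfl, hLJ, Mo.le_comap_of_good_eq_top htop⟩
      · obtain ⟨L₁, h₁, h₂, h₃, h₄⟩ := Mo.exists_step hfp L hL hLJ htop
        obtain ⟨L₂, k₁, k₂, k₃, k₄⟩ := ih _ (hb ▸ h₄) L₁ h₁ h₃ rfl
        exact ⟨L₂, k₁, h₂.trans k₂, k₃, k₄⟩
  exact main _ I hI hIJ rfl

end Model

end Groth.Agent.GrpdThick
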