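import Mathlib.RingTheory.Localization.BaseChange
import Mathlib.RingTheory.Finiteness.ModuleFinitePresentation
import Mathlib.RingTheory.TensorProduct.Finite
import Mathlib.RingTheory.FiniteStability
import Mathlib.Algebra.Module.FinitePresentation
import Mathlib.RingTheory.Flat.EquationalCriterion

/-!
# Contents of tensors with an algebra which is finite after inverting an element
-/

set_option backward.isDefEq.respectTransparency false
set_option backward.isDefEq.respectTransparency.types false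

universe u

open TensorProduct

namespace Groth.Agent.GrpdThick

/-- If a flat finitely presented algebra becomes finite after inverting `g`, a tensor with it is, up to
powers of `g`, a sum whose coefficients are killed up to powers of `g` by any map killing the sum. -/
theorem exists_content {R S M : Type u} [CommRing R] [CommRing S] [Algebra R S] [Module.Flat R S]
    [Algebra.FinitePresentation R S] (g : R)
    [Module.Finite (Localization.Away g) (Localization.Away g ⊗[R] S)]
    [AddCommGroup M] [Module R M] (z : M ⊗[R] S) :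
    ∃ (n : ℕ) (x : Fin n → M) (e : Fin n → S) (k : ℕ), g ^ k • z = ∑ i, x i ⊗ₜ[R] e i ∧
      ∀ (M' : Type u) [AddCommGroup M'] [Module R M'] (f : M →ₗ[R] M'),
        ∑ i, f (x i) ⊗ₜ[R] e i = 0 → ∀ i, ∃ k : ℕ, g ^ k • f (x i) = 0 := by
  classical
  let L := Localization.Away g
  let P := L ⊗[R] S
  have : Module.Flat L P := inferInstance
  have : Algebra.FinitePresentation L P := inferInstance
  have : Module.FinitePresentation L P := Module.FinitePresentation.of_finite_of_finitePresentation L P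
  have : Module.Projective L P := Module.Flat.projective_of_finitePresentation
  obtain ⟨n, p, σ, -, -, hpσ⟩ := Module.Finite.exists_comp_eq_id_of_projective L P
  have hp : ∀ y, y = ∑ i, σ y i • p (Pi.single i 1) := fun y => by
    conv_lhs => rw [show y = p (σ y) from (LinearMap.congr_fun hpσ y).symm, pi_eq_sum_univ' (σ y)]
    simp [map_sum, map_smul]
  -- common denominators
  have hloc : ∀ (N : Type u) [AddCommGroup N] [Module R N] (y : L ⊗[R] N), ∃ (k : ℕ) (b : N),
      g ^ k • y = (1 : L) ⊗ₜ b := by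
    intro N _ _ y
    obtain ⟨⟨b, ⟨_, k, rfl⟩⟩, h⟩ :=
      IsLocalizedModule.surj (Submonoid.powers g) (TensorProduct.mk R L N 1) y
    exact ⟨k, b, h⟩
  have hker : ∀ (N : Type u) [AddCommGroup N] [Module R N] (b : N), (1 : L) ⊗ₜ[R] b = 0 →
      ∃ k : ℕ, g ^ k • b = 0 := by
    intro N _ _ b hb
    have : TensorProduct.mk R L N 1 b = TensorProduct.mk R L N 1 0 := by simpa using hb
    obtain ⟨⟨_, k, rfl⟩, h⟩ := (IsLocalizedModule.eq_iff_exists (Submonoid.powers g) _).1 this
    exact ⟨k, by simpa [Submonoid.smul_def] using h⟩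
  choose ke b hb using fun i : Fin n => hloc S (p (Pi.single i 1))
  let k₀ := Finset.univ.sup ke
  let e : Fin n → S := fun i => g ^ (k₀ - ke i) • b i
  have he : ∀ i, g ^ k₀ • p (Pi.single i 1) = (1 : L) ⊗ₜ[R] e i := fun i => by
    rw [TensorProduct.tmul_smul, ← hb, smul_smul, ← pow_add, Nat.sub_add_cancel (Finset.le_sup (Finset.mem_univ i))]
  let v : L := (((IsLocalization.Away.algebraMap_isUnit g (S := L)).pow k₀).unit⁻¹ : Lˣ)
  have hv : v * algebraMap R L (g ^ k₀) = 1 := by
    rw [map_pow]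
    exact IsUnit.val_inv_mul _
  let ψ : Fin n → S →ₗ[R] L := fun i =>
    ((v • ((LinearMap.proj i).comp σ)).restrictScalars R).comp (TensorProduct.mk R L S 1)
  have hψ : ∀ s, ∑ i, ψ i s ⊗ₜ[R] e i = (1 : L) ⊗ₜ[R] s := fun s => by
    conv_rhs => rw [hp ((1 : L) ⊗ₜ[R] s)]
    refine Finset.sum_congr rfl fun i _ => ?_
    show (v * σ ((1 : L) ⊗ₜ[R] s) i) ⊗ₜ[R] e i = _
    rw [show (v * σ ((1 : L) ⊗ₜ[R] s) i) ⊗ₜ[R] e i =
      (v * σ ((1 : L) ⊗ₜ[R] s) i) • ((1 : L) ⊗ₜ[R] e i) by
        rw [TensorProduct.smul_tmul', smul_eq_mul, mul_one], ← he, ← algebraMap_smul L (g ^ k₀) (p _),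
      smul_smul, mul_comm v, mul_assoc, hv, mul_one]
  let Ψ : Fin n → M ⊗[R] S →ₗ[R] L ⊗[R] M := fun i =>
    (TensorProduct.comm R M L).toLinearMap.comp ((ψ i).lTensor M)
  choose kx x₀ hx₀ using fun i => hloc M (Ψ i z)
  let k₁ := Finset.univ.sup kx
  let x₁ : Fin n → M := fun i => g ^ (k₁ - kx i) • x₀ i
  have hx₁ : ∀ i, g ^ k₁ • Ψ i z = (1 : L) ⊗ₜ[R] x₁ i := fun i => by
    rw [TensorProduct.tmul_smul, ← hx₀, smul_smul, ← pow_add, Nat.sub_add_cancel (Finset.le_sup (Finset.mem_univ i))]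
  let Λ : Fin n → L ⊗[R] M →ₗ[R] L ⊗[R] (M ⊗[R] S) := fun i =>
    ((TensorProduct.mk R M S).flip (e i)).lTensor L
  have hid : ∀ y : M ⊗[R] S, ∑ i, Λ i (Ψ i y) = (1 : L) ⊗ₜ[R] y := fun y => by
    induction y using TensorProduct.induction_on with
    | zero => simp
    | tmul m s =>
      simp only [Λ, Ψ, LinearMap.comp_apply, LinearMap.lTensor_tmul, LinearEquiv.coe_coe, TensorProduct.comm_tmul,
        LinearMap.flip_apply, TensorProduct.mk_apply]
      have := congrArg ((TensorProduct.mk R M S m).lTensor L) (hψ s)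
      simpa [map_sum] using this
    | add a b ha hb => simp only [map_add, Finset.sum_add_distrib, ha, hb, TensorProduct.tmul_add]
  have hsum : (1 : L) ⊗ₜ[R] (g ^ k₁ • z) = (1 : L) ⊗ₜ[R] ∑ i, x₁ i ⊗ₜ[R] e i := by
    rw [TensorProduct.tmul_smul, ← hid, Finset.smul_sum, TensorProduct.tmul_sum]
    refine Finset.sum_congr rfl fun i _ => ?_
    rw [← map_smul, hx₁]
    simp [Λ]
  obtain ⟨k₂, hk₂⟩ := hker _ _ (show (1 : L) ⊗ₜ[R] (g ^ k₁ • z - ∑ i, x₁ i ⊗ₜ[R] e i) = 0 by
    rw [TensorProduct.tmul_sub, hsum, sub_self])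
  have hz : g ^ (k₂ + k₁) • z = ∑ i, (g ^ k₂ • x₁ i) ⊗ₜ[R] e i := by
    rw [smul_sub, sub_eq_zero, smul_smul, ← pow_add] at hk₂
    simp only [hk₂, Finset.smul_sum, TensorProduct.smul_tmul']
  refine ⟨n, fun i => g ^ k₂ • x₁ i, e, k₂ + k₁, hz, fun M' _ _ f hf i => hker _ _ ?_⟩
  let Ψ' : M' ⊗[R] S →ₗ[R] L ⊗[R] M' :=
    (TensorProduct.comm R M' L).toLinearMap.comp ((ψ i).lTensor M')
  have hnat : ∀ y, f.lTensor L (Ψ i y) = Ψ' (f.rTensor S y) := fun y => by
    induction y using TensorProduct.induction_on with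
    | zero => simp
    | tmul m s => simp [Ψ, Ψ']
    | add a b ha hb => simp only [map_add, ha, hb]
  have h1 : f.lTensor L (Ψ i (g ^ (k₂ + k₁) • z)) = 0 := by
    rw [hnat, hz, map_sum]
    simp only [LinearMap.rTensor_tmul]
    rw [hf, map_zero]
  rw [← h1, pow_add, mul_smul, map_smul (Ψ i), map_smul (Ψ i), hx₁]
  simp only [map_smul, LinearMap.lTensor_tmul, TensorProduct.tmul_smul]

end Groth.Agent.GrpdThick
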