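import Groth.Agent.GrpdThick.NilClosure
import Mathlib.RingTheory.Smooth.NoetherianDescent
import Mathlib.RingTheory.Spectrum.Prime.Chevalley
import Mathlib.RingTheory.Etale.Basic
import Mathlib.RingTheory.Flat.Stability
import Mathlib.RingTheory.Ideal.GoingDown
import Mathlib.RingTheory.Etale.StandardEtale
import Mathlib.RingTheory.Smooth.Flat
import Mathlib.RingTheory.Flat.FaithfullyFlat.Algebra

/-!
# Finite type models of étale quotients modulo a nil ideal
-/

set_option backward.isDefEq.respectTransparency false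
set_option backward.isDefEq.respectTransparency.types false

universe u

open CategoryTheory TensorProduct

namespace Groth.Agent.GrpdThick

/-- A faithfully flat étale algebra descends, faithfully flat, to a Noetherian ring. -/
theorem exists_etale_ff_model {A₀ A' : Type u} [CommRing A₀] [CommRing A'] [Algebra A₀ A'] [Algebra.Etale A₀ A']
    [Module.FaithfullyFlat A₀ A'] :
    ∃ (R₀ : Subalgebra ℤ A₀) (R' : Type u) (_ : CommRing R') (_ : Algebra R₀ R'),
      R₀.FG ∧ Algebra.Etale R₀ R' ∧ Module.FaithfullyFlat R₀ R' ∧ Nonempty (A' ≃ₐ[A₀] A₀ ⊗[R₀] R') := by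
  classical
  obtain ⟨S₀, B₀, _, _, hS₀, _, ⟨e⟩⟩ := Algebra.Etale.exists_subalgebra_fg ℤ A₀ A'
  have : IsNoetherianRing S₀ :=
    have : Algebra.FiniteType ℤ S₀ := (Subalgebra.fg_iff_finiteType S₀).1 hS₀
    Algebra.FiniteType.isNoetherianRing ℤ S₀
  let O := Set.range (PrimeSpectrum.comap (algebraMap S₀ B₀))
  have hO : IsOpen O := PrimeSpectrum.isOpenMap_comap_of_hasGoingDown_of_finitePresentation.isOpen_range
  obtain ⟨b, hb⟩ := (PrimeSpectrum.isClosed_iff_zeroLocus_ideal _).1 hO.isClosed_compl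
  -- the image of `Spec A₀` lies in `O`
  have hcov : ∀ p : PrimeSpectrum A₀, PrimeSpectrum.comap (algebraMap S₀ A₀) p ∈ O := fun p => by
    obtain ⟨q, rfl⟩ := PrimeSpectrum.comap_surjective_of_faithfullyFlat (A := A₀) (B := A') p
    refine ⟨PrimeSpectrum.comap (e.symm.toRingEquiv.toRingHom.comp
        (Algebra.TensorProduct.includeRight (R := S₀) (A := A₀) (B := B₀)).toRingHom) q, ?_⟩
    rw [← PrimeSpectrum.comap_comp_apply, ← PrimeSpectrum.comap_comp_apply]
    congr 1
    refine RingHom.ext fun c => ?_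
    show e.symm ((1 : A₀) ⊗ₜ[S₀] algebraMap S₀ B₀ c) = algebraMap A₀ A' (algebraMap S₀ A₀ c)
    rw [← e.symm.commutes]
    congr 1
    rw [Algebra.TensorProduct.algebraMap_apply, Algebra.algebraMap_self, RingHom.id_apply,
      Algebra.algebraMap_eq_smul_one (A := B₀) c, TensorProduct.tmul_smul,
      TensorProduct.smul_tmul', Algebra.smul_def, mul_one]
  have hone : (1 : A₀) ∈ b.map (algebraMap S₀ A₀) := by
    by_contra h
    obtain ⟨m, hm, hbm⟩ := Ideal.exists_le_maximal _ (fun ht => h ((Ideal.eq_top_iff_one (b.map (algebraMap S₀ A₀))).1 ht))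
    have h1 : PrimeSpectrum.comap (algebraMap S₀ A₀) ⟨m, hm.isPrime⟩ ∈ PrimeSpectrum.zeroLocus (b : Set S₀) :=
      fun x hx => hbm (Ideal.mem_map_of_mem _ hx)
    rw [← hb] at h1
    exact h1 (hcov _)
  obtain ⟨l, hl⟩ := (Finsupp.mem_span_iff_linearCombination A₀ _ 1).1 hone
  obtain ⟨G, hG⟩ := hS₀
  let C : Finset A₀ := l.support.image l
  let R₀ : Subalgebra ℤ A₀ := Algebra.adjoin ℤ ((G ∪ C : Finset A₀) : Set A₀)
  have hle : S₀ ≤ R₀ := hG ▸ Algebra.adjoin_mono (by simp)
  let : Algebra S₀ R₀ := (Subalgebra.inclusion hle).toRingHom.toAlgebra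
  have : IsScalarTower S₀ R₀ A₀ := IsScalarTower.of_algebraMap_eq fun _ => rfl
  let R' := R₀ ⊗[S₀] B₀
  refine ⟨R₀, R', inferInstance, inferInstance, ⟨G ∪ C, rfl⟩, inferInstance, ?_,
    ⟨e.trans (Algebra.TensorProduct.cancelBaseChange S₀ R₀ A₀ A₀ B₀).symm⟩⟩
  have hone' : (1 : R₀) ∈ b.map (algebraMap S₀ R₀) := by
    have hmem : ∀ x ∈ l.support, l x ∈ R₀ := fun x hx =>
      Algebra.subset_adjoin (Finset.mem_union_right _ (Finset.mem_image_of_mem _ hx))
    choose c hc hcx using fun x : (algebraMap S₀ A₀ '' (b : Set S₀)) => x.2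
    have hsum : (∑ x ∈ l.support.attach, (⟨l x.1, hmem x.1 x.2⟩ : R₀) * algebraMap S₀ R₀ (c x.1)) = 1 := by
      refine Subtype.ext ?_
      rw [AddSubmonoidClass.coe_finsetSum]
      show ∑ x ∈ l.support.attach, l x.1 * algebraMap S₀ A₀ (c x.1) = 1
      rw [Finset.sum_attach l.support (fun x => l x * algebraMap S₀ A₀ (c x))]
      rw [Finsupp.linearCombination_apply, Finsupp.sum] at hl
      simp only [hcx]
      exact hl
    rw [← hsum]
    exact sum_mem fun x _ => Ideal.mul_mem_left _ _ (Ideal.mem_map_of_mem _ (hc _))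
  have hsurj : Function.Surjective (PrimeSpectrum.comap (algebraMap R₀ R')) := by
    intro p
    rw [← Set.mem_range, ← PrimeSpectrum.nontrivial_iff_mem_rangeComap]
    let p₀ : PrimeSpectrum S₀ := PrimeSpectrum.comap (algebraMap S₀ R₀) p
    have hp₀ : p₀ ∈ O := by
      by_contra h
      rw [← Set.mem_compl_iff, hb] at h
      exact p.2.ne_top ((Ideal.eq_top_iff_one _).2 (Ideal.map_le_iff_le_comap.2 h hone'))
    let f := (algebraMap R₀ p.asIdeal.ResidueField).comp (algebraMap S₀ R₀)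
    have hf₁ : p₀.asIdeal ≤ RingHom.ker f := fun x hx =>
      Ideal.algebraMap_residueField_eq_zero.2 hx
    have hf₂ : p₀.asIdeal.primeCompl ≤ (IsUnit.submonoid p.asIdeal.ResidueField).comap f := fun x hx =>
      isUnit_iff_ne_zero.2 fun h => hx (show algebraMap S₀ R₀ x ∈ p.asIdeal from Ideal.algebraMap_residueField_eq_zero.1 h)
    let : Algebra p₀.asIdeal.ResidueField p.asIdeal.ResidueField := (Ideal.ResidueField.lift _ f hf₁ hf₂).toAlgebra
    have : IsScalarTower S₀ p₀.asIdeal.ResidueField p.asIdeal.ResidueField :=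
      IsScalarTower.of_algebraMap_eq fun x => (Ideal.ResidueField.lift_algebraMap _ f hf₁ hf₂ x).symm
    have := (PrimeSpectrum.nontrivial_iff_mem_rangeComap p₀).2 hp₀
    have : Nontrivial (p.asIdeal.ResidueField ⊗[p₀.asIdeal.ResidueField] (p₀.asIdeal.ResidueField ⊗[S₀] B₀)) :=
      (Module.FaithfullyFlat.nontrivial_tensorProduct_iff_right
        p₀.asIdeal.ResidueField p.asIdeal.ResidueField).2 this
    exact ((Algebra.TensorProduct.cancelBaseChange S₀ p₀.asIdeal.ResidueField p.asIdeal.ResidueField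
      p.asIdeal.ResidueField B₀).trans (Algebra.TensorProduct.cancelBaseChange S₀ R₀ p.asIdeal.ResidueField
      p.asIdeal.ResidueField B₀).symm).symm.toEquiv.nontrivial
  exact Module.FaithfullyFlat.of_comap_surjective hsurj

end Groth.Agent.GrpdThick
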