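import Groth.Agent.GrpdThick.SqZero
import Mathlib.RingTheory.TensorProduct.Quotient
import Mathlib.RingTheory.Ideal.Over

/-!
# Nilpotent extensions of affine flat relations which are quotients

If modulo an invariant nilpotent ideal an affine flat groupoid is the kernel pair of a faithfully flat
map, so is the groupoid itself, with the invariants as base.
-/

set_option backward.isDefEq.respectTransparency false
set_option backward.isDefEq.respectTransparency.types false

universe u

open CategoryTheory TensorProduct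

namespace Groth.Agent.GrpdThick

namespace Rel

/-- The groupoid is the kernel pair of the spectrum of its invariants, faithfully flat. -/
def IsQuot (D : Rel.{u}) : Prop :=
  (D.s.eqLocus D.t).subtype.Flat ∧
    Function.Surjective (PrimeSpectrum.comap (D.s.eqLocus D.t).subtype) ∧
    IsPushout (CommRingCat.ofHom (D.s.eqLocus D.t).subtype) (CommRingCat.ofHom (D.s.eqLocus D.t).subtype)
      (CommRingCat.ofHom D.t) (CommRingCat.ofHom D.s)

variable (D : Rel.{u}) (I : Ideal D.A) (hI : I ≤ (I.map D.t).comap D.s)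
include hI

theorem p₂_mem : I.map D.t ≤ ((I.map D.t).map D.p₁).comap D.p₂ := by
  rw [Ideal.map_le_iff_le_comap]
  intro i hi
  have h3 : D.p₂ (D.t i) = D.p₁ (D.s i) := congrArg (fun φ => φ.hom i) D.sq₁.w
  show D.p₂ (D.t i) ∈ (I.map D.t).map D.p₁
  rw [h3]
  exact Ideal.mem_map_of_mem _ (hI hi)

omit hI in
theorem m_mem : I.map D.t ≤ ((I.map D.t).map D.p₁).comap D.m := by
  rw [Ideal.map_le_iff_le_comap]
  intro i hi
  show D.m (D.t i) ∈ (I.map D.t).map D.p₁
  rw [show D.m (D.t i) = D.p₁ (D.t i) from RingHom.congr_fun D.m_t i]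
  exact Ideal.mem_map_of_mem _ (Ideal.mem_map_of_mem _ hi)

omit hI in
theorem e_mem : I.map D.t ≤ I.comap D.e := by
  rw [Ideal.map_le_iff_le_comap]
  intro i hi
  show D.e (D.t i) ∈ I
  rw [show D.e (D.t i) = i from RingHom.congr_fun D.e_t i]
  exact hi

omit hI in
theorem flat_quotientMap : (Ideal.quotientMap (I.map D.t) D.t Ideal.le_comap_map).Flat := by
  algebraize [D.t]
  have : Module.Flat D.A D.B := D.flat_t
  let φ : (D.A ⧸ I) ⊗[D.A] D.B ≃ₐ[D.A] D.B ⧸ I.map (algebraMap D.A D.B) :=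
    (Algebra.TensorProduct.comm D.A _ _).trans
      ((Algebra.TensorProduct.quotIdealMapEquivTensorQuot D.B I).symm.restrictScalars D.A)
  let ψ : (D.A ⧸ I) ⊗[D.A] D.B ≃ₗ[D.A ⧸ I] D.B ⧸ I.map (algebraMap D.A D.B) :=
    { φ.toLinearEquiv.toAddEquiv with
      map_smul' := fun x z => by
        obtain ⟨a, rfl⟩ := Ideal.Quotient.mk_surjective x
        show φ (Ideal.Quotient.mk I a • z) = Ideal.Quotient.mk I a • φ z
        rw [← Ideal.Quotient.algebraMap_eq, algebraMap_smul, algebraMap_smul, map_smul] }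
  have h : (algebraMap (D.A ⧸ I) (D.B ⧸ I.map (algebraMap D.A D.B))).Flat :=
    RingHom.flat_algebraMap_iff.2 (Module.Flat.of_linearEquiv ψ.symm)
  exact h

/-- The restriction of the groupoid to an invariant closed subscheme. -/
def quot : Rel.{u} where
  A := D.A ⧸ I
  B := D.B ⧸ I.map D.t
  C := D.C ⧸ (I.map D.t).map D.p₁
  s := Ideal.quotientMap _ D.s hI
  t := Ideal.quotientMap _ D.t Ideal.le_comap_map
  e := Ideal.quotientMap _ D.e (D.e_mem I)
  p₁ := Ideal.quotientMap _ D.p₁ Ideal.le_comap_map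
  p₂ := Ideal.quotientMap _ D.p₂ (D.p₂_mem I hI)
  m := Ideal.quotientMap _ D.m (D.m_mem I)
  e_s := Ideal.Quotient.ringHom_ext <| RingHom.ext fun a => congrArg (Ideal.Quotient.mk I) (RingHom.congr_fun D.e_s a)
  e_t := Ideal.Quotient.ringHom_ext <| RingHom.ext fun a => congrArg (Ideal.Quotient.mk I) (RingHom.congr_fun D.e_t a)
  m_t := Ideal.Quotient.ringHom_ext <| RingHom.ext fun a => congrArg (Ideal.Quotient.mk _) (RingHom.congr_fun D.m_t a)
  m_s := Ideal.Quotient.ringHom_ext <| RingHom.ext fun a => congrArg (Ideal.Quotient.mk _) (RingHom.congr_fun D.m_s a)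
  flat_t := D.flat_quotientMap I
  sq₁ := by
    have w : ∀ a, D.p₂ (D.t a) = D.p₁ (D.s a) := fun a => congrArg (fun φ => φ.hom a) D.sq₁.w
    let qA := CommRingCat.ofHom (Ideal.Quotient.mk I)
    let qB := CommRingCat.ofHom (Ideal.Quotient.mk (I.map D.t))
    let qC := CommRingCat.ofHom (Ideal.Quotient.mk ((I.map D.t).map D.p₁))
    refine ⟨⟨CommRingCat.hom_ext <| Ideal.Quotient.ringHom_ext <| RingHom.ext fun a =>
      congrArg (Ideal.Quotient.mk _) (w a)⟩, ⟨?_⟩⟩
    refine Limits.PushoutCocone.IsColimit.mk _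
      (fun c => CommRingCat.ofHom (Ideal.Quotient.lift _
        (D.sq₁.desc (qB ≫ c.inl) (qB ≫ c.inr) ?_).hom ?_)) ?_ ?_ ?_
    · ext a
      exact congrArg (fun φ => φ.hom (Ideal.Quotient.mk I a)) c.condition
    · intro x hx
      refine (show (I.map D.t).map D.p₁ ≤ RingHom.ker _ from ?_) hx
      rw [Ideal.map_le_iff_le_comap]
      intro y hy
      show (D.sq₁.desc (qB ≫ c.inl) (qB ≫ c.inr) _).hom (D.p₁ y) = 0
      refine (congrArg (fun φ => φ.hom y) (D.sq₁.inr_desc (qB ≫ c.inl) (qB ≫ c.inr) _)).trans ?_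
      show c.inr.hom (Ideal.Quotient.mk _ y) = 0
      rw [Ideal.Quotient.eq_zero_iff_mem.2 hy, map_zero]
    · intro c
      refine CommRingCat.hom_ext <| Ideal.Quotient.ringHom_ext <| RingHom.ext fun a => ?_
      exact congrArg (fun φ => φ.hom a) (D.sq₁.inl_desc (qB ≫ c.inl) (qB ≫ c.inr) _)
    · intro c
      refine CommRingCat.hom_ext <| Ideal.Quotient.ringHom_ext <| RingHom.ext fun a => ?_
      exact congrArg (fun φ => φ.hom a) (D.sq₁.inr_desc (qB ≫ c.inl) (qB ≫ c.inr) _)
    · intro c l h₁ h₂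
      refine CommRingCat.hom_ext <| Ideal.Quotient.ringHom_ext ?_
      refine congrArg CommRingCat.Hom.hom ((D.sq₁.hom_ext ?_ ?_ : qC ≫ l = _))
      · refine Eq.trans ?_ (D.sq₁.inl_desc (qB ≫ c.inl) (qB ≫ c.inr) _).symm
        ext a
        exact congrArg (fun φ => φ.hom (Ideal.Quotient.mk _ a)) h₁
      · refine Eq.trans ?_ (D.sq₁.inr_desc (qB ≫ c.inl) (qB ≫ c.inr) _).symm
        ext a
        exact congrArg (fun φ => φ.hom (Ideal.Quotient.mk _ a)) h₂

end Rel

namespace QuotMod

/-- A quotient of the groupoid modulo an invariant ideal `J` is one of the restriction to an invariant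
`I ≤ J` modulo the image of `J`. -/
noncomputable def toQuot {D : Rel.{u}} {J : Ideal D.A} (Q : QuotMod D J) (I : Ideal D.A)
    (hI : I ≤ (I.map D.t).comap D.s) (hIJ : I ≤ J) :
    QuotMod (D.quot I hI) (J.map (Ideal.Quotient.mk I)) :=
  let J' : Ideal (D.A ⧸ I) := J.map (Ideal.Quotient.mk I)
  let t' : D.A ⧸ I →+* D.B ⧸ I.map D.t := Ideal.quotientMap _ D.t Ideal.le_comap_map
  let eA : D.A ⧸ J ≃+* (D.A ⧸ I) ⧸ J' := (DoubleQuot.quotQuotEquivQuotOfLE hIJ).symm
  have hmap : J'.map t' = (J.map D.t).map (Ideal.Quotient.mk (I.map D.t)) := by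
    rw [Ideal.map_map, Ideal.map_map]
    rfl
  let eB : D.B ⧸ J.map D.t ≃+* (D.B ⧸ I.map D.t) ⧸ J'.map t' :=
    (DoubleQuot.quotQuotEquivQuotOfLE (Ideal.map_mono hIJ)).symm.trans (Ideal.quotEquivOfEq hmap.symm)
  have hinv : J' ≤ (J'.map t').comap (Ideal.quotientMap _ D.s hI) := by
    rw [Ideal.map_le_iff_le_comap]
    intro j hj
    show Ideal.Quotient.mk (I.map D.t) (D.s j) ∈ J'.map t'
    rw [hmap]
    exact Ideal.mem_map_of_mem _ (Q.inv hj)
  { A₀ := Q.A₀
    π₀ := eA.toRingHom.comp Q.π₀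
    inv := hinv
    flat := RingHom.Flat.comp Q.flat (RingHom.Flat.of_bijective eA.bijective)
    surjective := by
      rw [PrimeSpectrum.comap_comp]
      exact Q.surjective.comp fun p => ⟨PrimeSpectrum.comap eA.symm.toRingHom p, by
        rw [← PrimeSpectrum.comap_comp_apply]
        simp⟩
    sq₀ := by
      refine Q.sq₀.of_iso (Iso.refl _) eA.toCommRingCatIso eA.toCommRingCatIso eB.toCommRingCatIso rfl rfl ?_ ?_
      · exact CommRingCat.hom_ext <| Ideal.Quotient.ringHom_ext <| RingHom.ext fun a => rfl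
      · exact CommRingCat.hom_ext <| Ideal.Quotient.ringHom_ext <| RingHom.ext fun a => rfl }

end QuotMod

/-- The invariants give a quotient, a nilpotent step up. -/
theorem isQuot_of_nilpotent (D : Rel.{u}) {J : Ideal D.A} (hJ : IsNilpotent J) (Q : QuotMod D J) :
    D.IsQuot := by
  obtain ⟨n, hn⟩ := hJ
  have hn' : J ^ 2 ^ (n + 1) = ⊥ := eq_bot_iff.2
    ((Ideal.pow_le_pow_right ((Nat.le_succ n).trans (Nat.lt_two_pow_self).le)).trans hn.le)
  clear hn
  induction n generalizing D with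
  | zero => exact exists_quot_of_sq_zero D (by simpa using hn') Q
  | succ n ih =>
    let I := J ^ 2
    have hI : I ≤ (I.map D.t).comap D.s := by
      refine le_trans ?_ (le_of_eq (congrArg (Ideal.comap D.s) (Ideal.map_pow D.t J 2).symm))
      exact (pow_le_pow_left' Q.inv 2).trans (Ideal.le_comap_pow D.s 2)
    have hIJ : I ≤ J := Ideal.pow_le_self two_ne_zero
    obtain ⟨h₁, h₂, h₃⟩ := exists_quot_of_sq_zero (D.quot I hI) (J := J.map (Ideal.Quotient.mk I))
      (by rw [← Ideal.map_pow]; exact Ideal.map_quotient_self I) (Q.toQuot I hI hIJ)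
    exact ih D (J := I)
      { A₀ := _, π₀ := _, inv := hI, flat := h₁, surjective := h₂, sq₀ := h₃ }
      (by rw [← pow_mul, ← pow_succ']; exact hn')

end Groth.Agent.GrpdThick
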