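import Groth.Agent.GrpdThick.Key
import Groth.Agent.SGA1Q.FlatNilp
import Mathlib.RingTheory.Flat.FaithfullyFlat.Algebra
import Mathlib.RingTheory.Flat.Equalizer
import Mathlib.RingTheory.TensorProduct.IncludeLeftSubRight

/-!
# Square zero extensions of affine flat relations which are quotients

If modulo an invariant ideal of square zero an affine flat groupoid is the kernel pair of a faithfully
flat map, so is the groupoid itself, with the invariants as base.
-/

set_option backward.isDefEq.respectTransparency false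
set_option backward.isDefEq.respectTransparency.types false

universe u

open CategoryTheory TensorProduct

namespace Groth.Agent.GrpdThick

/-- The rings of an affine flat groupoid which are used in descent. -/
structure Rel where
  A : Type u
  [instA : CommRing A]
  B : Type u
  [instB : CommRing B]
  C : Type u
  [instC : CommRing C]
  s : A →+* B
  t : A →+* B
  e : B →+* A
  p₁ : B →+* C
  p₂ : B →+* C
  m : B →+* C
  e_s : e.comp s = RingHom.id A
  e_t : e.comp t = RingHom.id A
  m_t : m.comp t = p₁.comp t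
  m_s : m.comp s = p₂.comp s
  sq₁ : IsPushout (CommRingCat.ofHom t) (CommRingCat.ofHom s) (CommRingCat.ofHom p₂) (CommRingCat.ofHom p₁)
  flat_t : t.Flat

attribute [instance] Rel.instA Rel.instB Rel.instC

/-- A quotient of the groupoid modulo an invariant ideal. -/
structure QuotMod (D : Rel.{u}) (J : Ideal D.A) where
  A₀ : Type u
  [instA₀ : CommRing A₀]
  π₀ : A₀ →+* D.A ⧸ J
  inv : J ≤ (J.map D.t).comap D.s
  flat : π₀.Flat
  surjective : Function.Surjective (PrimeSpectrum.comap π₀)
  sq₀ : IsPushout (CommRingCat.ofHom π₀) (CommRingCat.ofHom π₀)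
    (CommRingCat.ofHom (Ideal.quotientMap (J.map D.t) D.t Ideal.le_comap_map))
    (CommRingCat.ofHom (Ideal.quotientMap (J.map D.t) D.s inv))

attribute [instance] QuotMod.instA₀

theorem exists_baseChange_equiv {K A A₀ A' : Type u} [CommRing K] [CommRing A] [CommRing A₀] [CommRing A']
    [Algebra K A] [Algebra A₀ A'] (q : K →+* A₀) (hq : Function.Surjective q) (π : A →+* A')
    (hπ : Function.Surjective π) (hsq : π.comp (algebraMap K A) = (algebraMap A₀ A').comp q)
    (hker : RingHom.ker π ≤ (RingHom.ker q).map (algebraMap K A))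
    (N : Type u) [AddCommGroup N] [Module K N] [Module A₀ N] (hN : ∀ (k : K) (n : N), k • n = q k • n) :
    ∃ e : N ⊗[K] A ≃+ N ⊗[A₀] A', ∀ n a, e (n ⊗ₜ a) = n ⊗ₜ π a := by
  classical
  have hkey : ∀ (n : N) (a : A), π a = 0 → n ⊗ₜ[K] a = 0 := by
    suffices ∀ x ∈ (RingHom.ker q).map (algebraMap K A), ∀ (c : A) (n : N), n ⊗ₜ[K] (c * x) = 0 by
      intro n a ha
      simpa using this a (hker ha) 1 n
    intro x hx
    induction hx using Submodule.span_induction with
    | mem x hx =>
      obtain ⟨k, hk, rfl⟩ := hx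
      intro c n
      rw [mul_comm, ← Algebra.smul_def, TensorProduct.tmul_smul, TensorProduct.smul_tmul', hN,
        show q k = 0 from hk, zero_smul, TensorProduct.zero_tmul]
    | zero => intro c n; rw [mul_zero, TensorProduct.tmul_zero]
    | add x y _ _ hx hy => intro c n; rw [mul_add, TensorProduct.tmul_add, hx, hy, add_zero]
    | smul d x _ hx => intro c n; rw [smul_eq_mul, ← mul_assoc]; exact hx _ _
  let F : N ⊗[K] A →+ N ⊗[A₀] A' := TensorProduct.liftAddHom
    { toFun := fun n => { toFun := fun a => n ⊗ₜ π a, map_zero' := by simp,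
                          map_add' := fun a b => by rw [map_add, TensorProduct.tmul_add] }
      map_zero' := by ext a; exact TensorProduct.zero_tmul _ _
      map_add' := fun n n' => by ext a; exact TensorProduct.add_tmul _ _ _ }
    (fun k n a => by
      show (k • n) ⊗ₜ π a = n ⊗ₜ π (k • a)
      have hka : π (algebraMap K A k) = algebraMap A₀ A' (q k) := RingHom.congr_fun hsq k
      rw [hN, TensorProduct.smul_tmul, Algebra.smul_def, Algebra.smul_def, map_mul, hka])
  let lift : A' → A := fun x => Function.surjInv hπ x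
  have hlift : ∀ (n : N) (a : A), n ⊗ₜ[K] lift (π a) = n ⊗ₜ a := fun n a => by
    rw [← sub_eq_zero, ← TensorProduct.tmul_sub]
    exact hkey n _ (by rw [map_sub, Function.surjInv_eq hπ, sub_self])
  let G : N ⊗[A₀] A' →+ N ⊗[K] A := TensorProduct.liftAddHom
    { toFun := fun n => { toFun := fun x => n ⊗ₜ lift x, map_zero' := by rw [← map_zero π, hlift, TensorProduct.tmul_zero],
                          map_add' := fun x y => by
                            obtain ⟨a, rfl⟩ := hπ x
                            obtain ⟨b, rfl⟩ := hπ y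
                            rw [← map_add, hlift, hlift, hlift, TensorProduct.tmul_add] }
      map_zero' := by ext a; exact TensorProduct.zero_tmul _ _
      map_add' := fun n n' => by ext a; exact TensorProduct.add_tmul _ _ _ }
    (fun c n x => by
      obtain ⟨k, rfl⟩ := hq c
      obtain ⟨a, rfl⟩ := hπ x
      show (q k • n) ⊗ₜ lift (π a) = n ⊗ₜ lift (q k • π a)
      have hka : π (algebraMap K A k) = algebraMap A₀ A' (q k) := RingHom.congr_fun hsq k
      rw [← hN, Algebra.smul_def (q k), ← hka, ← map_mul, hlift, hlift, ← Algebra.smul_def, TensorProduct.smul_tmul])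
  have hGF : ∀ z, G (F z) = z := fun z => by
    induction z using TensorProduct.induction_on with
    | zero => simp
    | tmul n a => exact hlift n a
    | add x y hx hy => rw [map_add, map_add, hx, hy]
  have hFG : ∀ z, F (G z) = z := fun z => by
    induction z using TensorProduct.induction_on with
    | zero => simp
    | tmul n x => show n ⊗ₜ π (lift x) = n ⊗ₜ x; rw [Function.surjInv_eq hπ]
    | add x y hx hy => rw [map_add, map_add, hx, hy]
  exact ⟨{ F with invFun := G, left_inv := hGF, right_inv := hFG }, fun n a => rfl⟩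

set_option maxHeartbeats 1000000 in
set_option synthInstance.maxHeartbeats 100000 in
/-- The invariants give a quotient, one square zero step up. -/
theorem exists_quot_of_sq_zero (D : Rel.{u}) {J : Ideal D.A} (hJ : J ^ 2 = ⊥) (Q : QuotMod D J) :
    (D.s.eqLocus D.t).subtype.Flat ∧
      Function.Surjective (PrimeSpectrum.comap (D.s.eqLocus D.t).subtype) ∧
      IsPushout (CommRingCat.ofHom (D.s.eqLocus D.t).subtype) (CommRingCat.ofHom (D.s.eqLocus D.t).subtype)
        (CommRingCat.ofHom D.t) (CommRingCat.ofHom D.s) := by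
  classical
  set JB := J.map D.t with hJB
  let A' := D.A ⧸ J
  let B' := D.B ⧸ JB
  let π : D.A →+* A' := Ideal.Quotient.mk J
  let tb : A' →+* B' := Ideal.quotientMap JB D.t Ideal.le_comap_map
  let sb : A' →+* B' := Ideal.quotientMap JB D.s Q.inv
  algebraize [Q.π₀]
  have hflat : Module.Flat Q.A₀ A' := Q.flat
  have : Module.FaithfullyFlat Q.A₀ A' :=
    Module.FaithfullyFlat.of_comap_surjective (A := Q.A₀) (B := A') Q.surjective
  have hmul : ∀ a ∈ J, ∀ b ∈ J, a * b = 0 := fun a ha b hb => by
    rw [← Ideal.mem_bot, ← hJ, sq]; exact Ideal.mul_mem_mul ha hb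
  have hmulB : ∀ a ∈ JB, ∀ b ∈ JB, a * b = 0 := fun a ha b hb => by
    have : JB ^ 2 = ⊥ := by rw [hJB, ← Ideal.map_pow, hJ, Ideal.map_bot]
    rw [← Ideal.mem_bot, ← this, sq]; exact Ideal.mul_mem_mul ha hb
  have hsJ : ∀ j ∈ J, D.s j ∈ JB := fun j hj => Q.inv hj
  have htJ : ∀ j ∈ J, D.t j ∈ JB := fun j hj => Ideal.mem_map_of_mem _ hj
  have hJ0 : Module.IsTorsionBySet D.A J (J : Set D.A) := fun x a => Subtype.ext (hmul _ a.2 _ x.2)
  let : Module A' J := hJ0.module
  let : Module D.A JB := Module.compHom JB D.s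
  have hJB0 : Module.IsTorsionBySet D.A JB (J : Set D.A) := fun x a =>
    Subtype.ext (hmulB _ (hsJ _ a.2) _ x.2)
  let : Module A' JB := hJB0.module
  let : Module Q.A₀ J := Module.compHom J Q.π₀
  let : Module Q.A₀ JB := Module.compHom JB Q.π₀
  have : IsScalarTower Q.A₀ A' J := ⟨fun c x j => by
    rw [Algebra.smul_def, mul_smul]; rfl⟩
  have : IsScalarTower Q.A₀ A' JB := ⟨fun c x j => by
    rw [Algebra.smul_def, mul_smul]; rfl⟩
  have sqid : IsPushout (CommRingCat.ofHom (RingHom.id D.A)) (CommRingCat.ofHom D.t)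
      (CommRingCat.ofHom D.t) (CommRingCat.ofHom (RingHom.id D.B)) :=
    have : IsIso (CommRingCat.ofHom (RingHom.id D.A)) := inferInstanceAs (IsIso (𝟙 _))
    have : IsIso (CommRingCat.ofHom (RingHom.id D.B)) := inferInstanceAs (IsIso (𝟙 _))
    IsPushout.of_horiz_isIso ⟨by ext; rfl⟩
  obtain ⟨Φ₀, hΦ₀i, hΦ₀, hΦ₀r⟩ := exists_key J sqid D.flat_t (h := sb) (gb := tb) (fun a => rfl) Q.sq₀
    (M := J) J.subtype.toAddMonoidHom Subtype.val_injective (fun a m => rfl)
  obtain ⟨Φ₁, hΦ₁i, hΦ₁, -⟩ := exists_key J D.sq₁.flip D.flat_t (h := sb) (gb := tb) (fun a => rfl) Q.sq₀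
    (M := JB) JB.subtype.toAddMonoidHom Subtype.val_injective (fun a m => rfl)
  have hΦ₀' : ∀ (j : J) (a : D.A), Φ₀ (j ⊗ₜ π a) = D.t j * D.s a := fun j a =>
    hΦ₀ j (π a) (D.s a) rfl
  have hJBmem : ∀ β ∈ JB, β ∈ Set.range Φ₀ := by
    intro β hβ
    suffices ∀ b, β * b ∈ Set.range Φ₀ by simpa using this 1
    induction hβ using Submodule.span_induction with
    | mem x hx => intro b; obtain ⟨j, hj, rfl⟩ := hx; exact hΦ₀r ⟨j, hj⟩ b
    | zero => intro b; exact ⟨0, by simp⟩
    | add x y _ _ hx hy =>
      intro b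
      obtain ⟨u, hu⟩ := hx b
      obtain ⟨v, hv⟩ := hy b
      exact ⟨u + v, by rw [map_add, hu, hv, add_mul]⟩
    | smul c x _ hx => intro b; rw [smul_eq_mul, mul_comm c, mul_assoc]; exact hx _
  -- lifts of elements of the quotient satisfy the invariance modulo `JB`
  have hcompat : ∀ (c : Q.A₀) (a : D.A), π a = Q.π₀ c → D.t a - D.s a ∈ JB := by
    intro c a ha
    rw [← Ideal.Quotient.eq]
    have := congrArg (fun φ => φ.hom c) Q.sq₀.w
    have e1 : tb (π a) = sb (π a) := by rw [ha]; exact this
    exact e1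
  have hds : ∀ j : J, D.t j - D.s j ∈ JB := fun j => sub_mem (htJ _ j.2) (hsJ _ j.2)
  let d : J →ₗ[Q.A₀] JB :=
    { toFun := fun j => ⟨D.t j - D.s j, hds j⟩
      map_add' := fun i j => Subtype.ext (by simp [add_sub_add_comm])
      map_smul' := fun c j => by
        obtain ⟨a, ha⟩ := Ideal.Quotient.mk_surjective (Q.π₀ c)
        refine Subtype.ext ?_
        have e1 : (c • j : J) = a • j := by
          show Q.π₀ c • j = a • j
          rw [← ha]; rfl
        have e2 : ∀ x : JB, ((c • x : JB) : D.B) = D.s a * x := fun x => by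
          show ((Q.π₀ c • x : JB) : D.B) = _
          rw [← ha]; rfl
        simp only [RingHom.id_apply, e1, e2]
        show D.t (a * j) - D.s (a * j) = D.s a * (D.t j - D.s j)
        rw [map_mul, map_mul, ← sub_eq_zero]
        calc _ = (D.t a - D.s a) * D.t j := by ring
          _ = 0 := hmulB _ (hcompat c a ha) _ (htJ _ j.2) }
  let d₁ := d.rTensor A'
  have hmain : ∀ v : J ⊗[Q.A₀] A', Φ₁ (d₁ v) = D.m (Φ₀ v) - D.p₂ (Φ₀ v) := by
    intro v
    induction v using TensorProduct.induction_on with
    | zero => simp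
    | tmul j y =>
      obtain ⟨a, rfl⟩ := Ideal.Quotient.mk_surjective y
      rw [LinearMap.rTensor_tmul, hΦ₁ _ _ (D.s a) rfl, hΦ₀' j a]
      show D.p₁ (D.t j - D.s j) * D.p₂ (D.s a) = _
      have h1 : D.m (D.t j) = D.p₁ (D.t j) := RingHom.congr_fun D.m_t j
      have h2 : D.m (D.s a) = D.p₂ (D.s a) := RingHom.congr_fun D.m_s a
      have h3 : D.p₂ (D.t j) = D.p₁ (D.s j) := congrArg (fun φ => φ.hom (j : D.A)) D.sq₁.w
      rw [map_mul, map_mul, h1, h2, h3, map_sub, sub_mul]
    | add u v hu hv => rw [map_add, map_add, hu, hv, map_add, map_add, map_add, add_sub_add_comm]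
  -- every element of the quotient lifts to an invariant
  have hlift : ∀ c, ∃ a, D.s a = D.t a ∧ π a = Q.π₀ c := by
    intro c
    obtain ⟨a, ha⟩ := Ideal.Quotient.mk_surjective (Q.π₀ c)
    let δ : JB := ⟨D.t a - D.s a, hcompat c a ha⟩
    obtain ⟨v, hv⟩ := hJBmem _ δ.2
    have hdv : d₁ v = δ ⊗ₜ 1 := by
      apply hΦ₁i
      rw [hmain, hv, hΦ₁ δ 1 1 (by rw [map_one, map_one]), map_one, mul_one]
      show D.m (D.t a - D.s a) - D.p₂ (D.t a - D.s a) = D.p₁ (D.t a - D.s a)
      have h1 : D.m (D.t a) = D.p₁ (D.t a) := RingHom.congr_fun D.m_t a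
      have h2 : D.m (D.s a) = D.p₂ (D.s a) := RingHom.congr_fun D.m_s a
      have h3 : D.p₂ (D.t a) = D.p₁ (D.s a) := congrArg (fun φ => φ.hom a) D.sq₁.w
      simp only [map_sub, h1, h2, h3]
      ring
    have hmem : δ ∈ LinearMap.range d := by
      rw [← (LinearMap.range d).ker_mkQ, LinearMap.mem_ker]
      apply Module.FaithfullyFlat.tensorProduct_mk_injective (A := Q.A₀) (B := A') (JB ⧸ LinearMap.range d)
      rw [TensorProduct.mk_apply, map_zero]
      have h0 : (LinearMap.range d).mkQ.rTensor A' (d₁ v) = 0 := by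
        rw [← LinearMap.comp_apply, ← LinearMap.rTensor_comp, LinearMap.range_mkQ_comp, LinearMap.rTensor_zero]
        rfl
      rw [hdv, LinearMap.rTensor_tmul] at h0
      have h0' := congrArg (TensorProduct.comm Q.A₀ _ _) h0
      simpa using h0'
    obtain ⟨j, hj⟩ := hmem
    have hj' : D.t j - D.s j = D.t a - D.s a := congrArg Subtype.val hj
    refine ⟨a - j, ?_, ?_⟩
    · rw [map_sub, map_sub]; linear_combination hj'
    · rw [map_sub, ha, Ideal.Quotient.eq_zero_iff_mem.2 j.2, sub_zero]
  -- the invariants mapping onto the quotient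
  set K := D.s.eqLocus D.t with hK
  have hq0 : Function.Injective Q.π₀ :=
    (RingHom.algebraMap_toAlgebra Q.π₀) ▸ FaithfulSMul.algebraMap_injective Q.A₀ A'
  have hKq : ∀ k : K, ∃ c, Q.π₀ c = π k := by
    intro k
    have e : tb (π k) = sb (π k) := congrArg (Ideal.Quotient.mk JB) k.2.symm
    let p := (CommRingCat.isPushout_tensorProduct Q.A₀ A' A').isoIsPushout _ _ Q.sq₀
    have h1 := congrArg (fun φ => φ.hom (π k))
      ((CommRingCat.isPushout_tensorProduct Q.A₀ A' A').inl_isoIsPushout_hom _ _ Q.sq₀)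
    have h2 := congrArg (fun φ => φ.hom (π k))
      ((CommRingCat.isPushout_tensorProduct Q.A₀ A' A').inr_isoIsPushout_hom _ _ Q.sq₀)
    have h12 : (π k) ⊗ₜ[Q.A₀] (1 : A') = (1 : A') ⊗ₜ π k :=
      p.commRingCatIsoToRingEquiv.injective (h1.trans (e.trans h2.symm))
    exact ((Algebra.IsEffective.of_faithfullyFlat Q.A₀ A') (π k)).1
      ((Algebra.TensorProduct.includeLeftSubRight_apply _).trans (sub_eq_zero.2 h12))
  choose q hqπ using hKq
  let qh : K →+* Q.A₀ :=
    { toFun := q
      map_one' := hq0 (by rw [hqπ, map_one]; exact map_one π)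
      map_mul' := fun x y => hq0 (by rw [hqπ, map_mul, hqπ, hqπ]; exact map_mul π _ _)
      map_zero' := hq0 (by rw [hqπ, map_zero]; exact map_zero π)
      map_add' := fun x y => hq0 (by rw [hqπ, map_add, hqπ, hqπ]; exact map_add π _ _) }
  have hqs : Function.Surjective qh := fun c => by
    obtain ⟨a, hinv, ha⟩ := hlift c
    exact ⟨⟨a, hinv⟩, hq0 ((hqπ _).trans ha)⟩
  have hIJ : ∀ k : K, k ∈ RingHom.ker qh ↔ (k : D.A) ∈ J := fun k => by
    rw [RingHom.mem_ker, ← Ideal.Quotient.eq_zero_iff_mem]
    show q k = 0 ↔ π k = 0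
    rw [← hqπ, map_eq_zero_iff _ hq0]
  set I := RingHom.ker qh
  have hI2 : IsNilpotent I := ⟨2, eq_bot_iff.2 fun x hx => by
    rw [sq] at hx
    induction hx using Submodule.mul_induction_on' with
    | mem_mul_mem x hx y hy => exact Subtype.ext (hmul _ ((hIJ x).1 hx) _ ((hIJ y).1 hy))
    | add x _ y _ hx hy => exact add_mem hx hy⟩
  have hspan : RingHom.ker π ≤ I.map (algebraMap K D.A) := by
    intro j hj
    rw [Ideal.mk_ker] at hj
    obtain ⟨v, hv⟩ := hJBmem _ (hsJ j hj)
    have hdv : d₁ v = 0 := hΦ₁i (by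
      rw [hmain, hv, map_zero, sub_eq_zero]
      exact RingHom.congr_fun D.m_s j)
    obtain ⟨w, rfl⟩ := (Module.Flat.rTensor_exact A' (LinearMap.exact_subtype_ker_map d) _).1 hdv
    suffices ∀ w, ∃ x ∈ I.map (algebraMap K D.A), Φ₀ ((LinearMap.ker d).subtype.rTensor A' w) = D.s x by
      obtain ⟨x, hx, hxe⟩ := this w
      rw [hv] at hxe
      have := congrArg D.e hxe
      rw [← RingHom.comp_apply, ← RingHom.comp_apply, D.e_s] at this
      exact (show j = x from this) ▸ hx
    intro w
    induction w using TensorProduct.induction_on with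
    | zero => exact ⟨0, zero_mem _, by simp⟩
    | tmul k y =>
      obtain ⟨a, rfl⟩ := Ideal.Quotient.mk_surjective y
      have hk : D.t (k.1 : J) - D.s (k.1 : J) = 0 := congrArg Subtype.val k.2
      let k' : K := ⟨(k.1 : J), (sub_eq_zero.1 hk).symm⟩
      refine ⟨(k.1 : J) * a, Ideal.mul_mem_right _ _ (Ideal.mem_map_of_mem (algebraMap K D.A)
        ((hIJ k').2 k.1.2)), ?_⟩
      rw [LinearMap.rTensor_tmul, Submodule.subtype_apply, hΦ₀' k.1 a, sub_eq_zero.1 hk, map_mul]
    | add u v hu hv =>
      obtain ⟨x, hx, hxe⟩ := hu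
      obtain ⟨y, hy, hye⟩ := hv
      exact ⟨x + y, add_mem hx hy, by rw [map_add, map_add, hxe, hye, map_add]⟩
  have hsqA : π.comp (algebraMap K D.A) = (algebraMap Q.A₀ A').comp qh :=
    RingHom.ext fun k => (hqπ k).symm
  -- `I ⊗ A → A` is injective
  let : Module Q.A₀ (LinearMap.ker d) := inferInstance
  have hflatK : K.subtype.Flat := by
    show Module.Flat K D.A
    refine SGA1Q.flat_of_isNilpotent I D.A hI2 ?_ ?_
    · let i : I →+ LinearMap.ker d :=
        { toFun := fun k => ⟨⟨(k : K), (hIJ k).1 k.2⟩, Subtype.ext (by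
            show D.t (k : K) - D.s (k : K) = 0
            rw [sub_eq_zero]; exact (k : K).2.symm)⟩
          map_zero' := rfl
          map_add' := fun _ _ => rfl }
      have hI : ∀ k k' : K, k' ∈ I → ∀ (x : I), (k - k') • x = k • x := fun k k' hk' x => by
        refine Subtype.ext ?_
        show (k - k') * (x : K) = k * x
        rw [sub_mul, sub_eq_self]
        exact Subtype.ext (hmul _ ((hIJ k').1 hk') _ ((hIJ x).1 x.2))
      let : Module K (LinearMap.ker d) := Module.compHom _ qh
      obtain ⟨e, he⟩ := exists_baseChange_equiv qh hqs π Ideal.Quotient.mk_surjective hsqA hspan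
        (LinearMap.ker d) fun _ _ => rfl
      let iK : I →ₗ[K] LinearMap.ker d :=
        { i with
          map_smul' := fun k x => by
            refine Subtype.ext (Subtype.ext ?_)
            show ((k : D.A) * ((x : K) : D.A)) = (((Q.π₀ (qh k)) • (i x).1 : J) : D.A)
            rw [show Q.π₀ (qh k) = π k from hqπ k]
            rfl }
      have hinj : Function.Injective iK := fun x y h =>
        Subtype.ext (Subtype.ext (congrArg (fun z => ((z.1 : J) : D.A)) h))
      have hsurj : Function.Surjective iK := fun z => by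
        have hz : D.t (z.1 : J) - D.s (z.1 : J) = 0 := congrArg Subtype.val z.2
        exact ⟨⟨⟨(z.1 : J), (sub_eq_zero.1 hz).symm⟩, (hIJ _).2 z.1.2⟩, rfl⟩
      let E := (LinearEquiv.ofBijective iK ⟨hinj, hsurj⟩).rTensor D.A
      have key : ∀ z : I ⊗[K] D.A, D.s (TensorProduct.lid K D.A (I.subtype.rTensor D.A z)) =
          Φ₀ ((LinearMap.ker d).subtype.rTensor A' (e (E z))) := fun z => by
        induction z using TensorProduct.induction_on with
        | zero => simp
        | tmul k a =>
          simp only [E, LinearEquiv.rTensor_tmul, LinearMap.rTensor_tmul, he, Submodule.subtype_apply,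
            LinearEquiv.ofBijective_apply]
          rw [hΦ₀' _ a, TensorProduct.lid_tmul]
          show D.s (((k : K) : D.A) * a) = D.t ((k : K) : D.A) * D.s a
          rw [map_mul, (k : K).2]
        | add x y hx hy => simp only [map_add, hx, hy]
      rw [injective_iff_map_eq_zero]
      intro z hz
      apply E.injective
      apply e.injective
      rw [map_zero, map_zero]
      apply Module.Flat.rTensor_preserves_injective_linearMap (M := A') (LinearMap.ker d).subtype
        Subtype.val_injective
      apply hΦ₀i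
      rw [← key, hz]
      simp only [map_zero]
    · intro N N' _ _ _ _ g hN hN' hg
      let : Module (K ⧸ I) N := hN.module
      let : Module (K ⧸ I) N' := hN'.module
      let r : Q.A₀ ≃+* K ⧸ I := (RingHom.quotientKerEquivOfSurjective hqs).symm
      have hr : ∀ k, r (qh k) = Ideal.Quotient.mk I k := fun k => by
        rw [RingEquiv.symm_apply_eq]; rfl
      let : Module Q.A₀ N := Module.compHom N r.toRingHom
      let : Module Q.A₀ N' := Module.compHom N' r.toRingHom
      have hk : ∀ (k : K) (n : N), k • n = qh k • n := fun k n => by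
        show _ = r (qh k) • n
        rw [hr]; rfl
      have hk' : ∀ (k : K) (n : N'), k • n = qh k • n := fun k n => by
        show _ = r (qh k) • n
        rw [hr]; rfl
      obtain ⟨e, he⟩ := exists_baseChange_equiv qh hqs π Ideal.Quotient.mk_surjective hsqA hspan N hk
      obtain ⟨e', he'⟩ := exists_baseChange_equiv qh hqs π Ideal.Quotient.mk_surjective hsqA hspan N' hk'
      let g₀ : N →ₗ[Q.A₀] N' :=
        { toFun := g
          map_add' := g.map_add
          map_smul' := fun c n => by
            obtain ⟨k, rfl⟩ := hqs c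
            rw [RingHom.id_apply, ← hk, ← hk', map_smul] }
      have key : ∀ z, e' (g.rTensor D.A z) = g₀.rTensor A' (e z) := fun z => by
        induction z using TensorProduct.induction_on with
        | zero => simp
        | tmul n a => simp [he, he', g₀]
        | add x y hx hy => simp only [map_add, hx, hy]
      intro x y hxy
      apply e.injective
      apply Module.Flat.rTensor_preserves_injective_linearMap (M := A') g₀ hg
      rw [← key, ← key, hxy]
  refine ⟨hflatK, fun p => ?_, ?_⟩
  · have hp : I ≤ p.asIdeal := by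
      obtain ⟨n, hn⟩ := hI2
      intro x hx
      refine p.2.mem_of_pow_mem n ?_
      have := Ideal.pow_mem_pow hx n
      rw [hn] at this
      rw [(Ideal.mem_bot).1 this]
      exact zero_mem _
    obtain ⟨p₀, hp₀⟩ : ∃ p₀ : PrimeSpectrum Q.A₀, PrimeSpectrum.comap qh p₀ = p := by
      refine ⟨⟨p.asIdeal.map qh, Ideal.map_isPrime_of_surjective hqs hp⟩, PrimeSpectrum.ext ?_⟩
      show (p.asIdeal.map qh).comap qh = p.asIdeal
      rw [Ideal.comap_map_of_surjective _ hqs]
      exact sup_eq_left.2 hp
    obtain ⟨P₀, hP₀⟩ := Q.surjective p₀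
    refine ⟨PrimeSpectrum.comap π P₀, ?_⟩
    rw [← hp₀, ← hP₀, ← PrimeSpectrum.comap_comp_apply, ← PrimeSpectrum.comap_comp_apply]
    exact congrArg (fun φ => PrimeSpectrum.comap φ P₀) hsqA
  · let : Algebra D.A D.B := D.t.toAlgebra
    let : Algebra K D.B := (D.t.comp K.subtype).toAlgebra
    have : IsScalarTower K D.A D.B := IsScalarTower.of_algebraMap_eq fun _ => rfl
    let sK : D.A →ₐ[K] D.B := { D.s with commutes' := fun k => k.2 }
    let L : D.A ⊗[K] D.A →ₐ[D.A] D.B := Algebra.TensorProduct.lift (Algebra.ofId D.A D.B) sK fun _ _ => .all _ _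
    have hL : ∀ x y, L (x ⊗ₜ y) = D.t x * D.s y := fun x y => by
      show Algebra.ofId D.A D.B x * sK y = _
      rfl
    let p := (CommRingCat.isPushout_tensorProduct Q.A₀ A' A').isoIsPushout _ _ Q.sq₀
    let e₀ : A' ⊗[Q.A₀] A' ≃+* B' := p.commRingCatIsoToRingEquiv
    have he₀ : ∀ x y, e₀ (x ⊗ₜ y) = tb x * sb y := fun x y => by
      have h1 := congrArg (fun φ => φ.hom x)
        ((CommRingCat.isPushout_tensorProduct Q.A₀ A' A').inl_isoIsPushout_hom _ _ Q.sq₀)
      have h2 := congrArg (fun φ => φ.hom y)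
        ((CommRingCat.isPushout_tensorProduct Q.A₀ A' A').inr_isoIsPushout_hom _ _ Q.sq₀)
      show p.hom.hom (x ⊗ₜ y) = _
      rw [show x ⊗ₜ[Q.A₀] y = (x ⊗ₜ[Q.A₀] 1) * (1 ⊗ₜ y) by simp, map_mul]
      exact congrArg₂ (· * ·) h1 h2
    let πK : D.A →ₗ[K] A' := { toFun := π, map_add' := π.map_add, map_smul' := fun _ _ => rfl }
    obtain ⟨e, he⟩ := exists_baseChange_equiv qh hqs π Ideal.Quotient.mk_surjective hsqA hspan A' fun k n => by
      obtain ⟨a, rfl⟩ := Ideal.Quotient.mk_surjective n
      show π (algebraMap K D.A k * a) = _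
      rw [map_mul, Algebra.smul_def]
      congr 1
      exact (hqπ k).symm
    have hmod : ∀ z, Ideal.Quotient.mk JB (L z) = e₀ (e (πK.rTensor D.A z)) := fun z => by
      induction z using TensorProduct.induction_on with
      | zero => simp
      | tmul x y =>
        rw [hL, map_mul, LinearMap.rTensor_tmul, he]
        exact (he₀ (π x) (π y)).symm
      | add x y hx hy => simp only [map_add, hx, hy]
    let incl : J →ₗ[K] D.A :=
      { toFun := Subtype.val
        map_add' := fun _ _ => rfl
        map_smul' := fun _ _ => rfl }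
    obtain ⟨eJ, heJ⟩ := exists_baseChange_equiv qh hqs π Ideal.Quotient.mk_surjective hsqA hspan J fun k j => by
      show k • j = (Q.π₀ (qh k)) • j
      rw [show Q.π₀ (qh k) = π k from hqπ k]
      rfl
    have hLJ : ∀ w, L (incl.rTensor D.A w) = Φ₀ (eJ w) := fun w => by
      induction w using TensorProduct.induction_on with
      | zero => simp
      | tmul j a => rw [LinearMap.rTensor_tmul, hL, heJ, hΦ₀']; rfl
      | add x y hx hy => simp only [map_add, hx, hy]
    have hbij : Function.Bijective L := by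
      constructor
      · rw [injective_iff_map_eq_zero]
        intro z hz
        have h1 : πK.rTensor D.A z = 0 := e.injective (e₀.injective (by rw [← hmod, hz, map_zero, map_zero, map_zero]))
        have hex : Function.Exact incl πK := fun a => ⟨fun h => ⟨⟨a, Ideal.Quotient.eq_zero_iff_mem.1 h⟩, rfl⟩,
          fun ⟨j, hj⟩ => hj ▸ Ideal.Quotient.eq_zero_iff_mem.2 j.2⟩
        obtain ⟨w, rfl⟩ := (rTensor_exact D.A hex Ideal.Quotient.mk_surjective _).1 h1
        rw [hLJ] at hz
        rw [show w = 0 from eJ.injective ((hΦ₀i (hz.trans (map_zero Φ₀).symm)).trans (map_zero eJ).symm), map_zero]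
      · intro b
        obtain ⟨z, hz⟩ := e₀.surjective (Ideal.Quotient.mk JB b)
        obtain ⟨z', hz'⟩ := LinearMap.rTensor_surjective D.A (g := πK) Ideal.Quotient.mk_surjective (e.symm z)
        have hr : b - L z' ∈ JB := by
          rw [← Ideal.Quotient.eq, hmod, hz', AddEquiv.apply_symm_apply, hz]
        obtain ⟨v, hv⟩ := hJBmem _ hr
        refine ⟨z' + incl.rTensor D.A (eJ.symm v), ?_⟩
        rw [map_add, hLJ, AddEquiv.apply_symm_apply, hv]
        ring
    refine IsPushout.of_iso (CommRingCat.isPushout_tensorProduct K D.A D.A) (Iso.refl _) (Iso.refl _) (Iso.refl _)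
      (RingEquiv.ofBijective L.toRingHom hbij).toCommRingCatIso rfl rfl ?_ ?_
    · ext x
      show L (x ⊗ₜ 1) = D.t x
      rw [hL, map_one, mul_one]
    · ext y
      show L (1 ⊗ₜ y) = D.s y
      rw [hL, map_one, one_mul]

end Groth.Agent.GrpdThick
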